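import Cfsg.Agent.H201.O8.Cover
import Cfsg.Agent.StdO8.Gen_m3
import Cfsg.Agent.H935.OreO8.Main
import Cfsg.Agent.H6.QO.Frame
import Cfsg.Agent.H52.ThreeFi24
import Cfsg.Agent.H827.JFi
import Cfsg.Agent.H841.Phi_m3
import Cfsg.Agent.H713.TC.FiCl
import Cfsg.Agent.Lib.PermNetFast
import Cfsg.Agent.H854.Ore.Fi24Two_m3
import Cfsg.Agent.H334.Ore.M24
import Cfsg.Agent.OddHalf.D4.Spor.FiTF_m3
import Cfsg.Agent.H729.TransFast
import Cfsg.Agent.FastGrp
import Cfsg.Agent.Prune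
set_option linter.all false

section
prune_inst 0x7ffdfffbfff8ffffffff7e7fffffdffff9fdffffefdffbfbfffdfbffffff6b6fffe5fbafffecd8ffded6e23eb0fa7b53ffffffffe36ffd7ffffdfff45ffbffdfffffbd2d71f7bc3e1ffe6ffffbf07fee7f3fffffffffffffffffffffffffffffffbfffffffff

-- part: H201/O8/Out
section
set_option linter.all false
open scoped Cfsg.Agent.FastGrp

/-!
# The classes outside `Ω₈⁺(2)`

* `outs` : the representatives `reps[40], ..., reps[66]` are products of a word with the reflection in `dec 136`;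
* `notMem_of_rep` : no isometry with such a code lies in `Om`;
* `coverOm` : every element of `Om` is conjugate in `O8` to an element of `Om` with one of the first forty codes;
* `coverOm'` : every `x ≠ 1` in `Om` is conjugate to an element of `Om` with one of the first 39 codes.
-/

set_option autoImplicit false

namespace Cfsg.Agent.H201.O8

open Cfsg.Agent.StdO8.Model Cfsg.Agent.StdO8.Code Cfsg.Agent.StdO8.Gen Cfsg.Agent.H612.Ore
open Cfsg.Agent.LieClassical.OrthCore (refl)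

/-- codes of the outer classes with words -/
def outs : List (ℕ × List (ℕ × ℕ)) := [
  (9241421624165794320, [(153,17)]),
  (9531903800131191312, [(4,8),(153,17)]),
  (4665764402824741392, [(157,17),(128,68)]),
  (5245602854848692752, [(93,17),(12,192)]),
  (5245602857872261648, [(157,17),(64,136)]),
  (4791869590303408656, [(4,27),(85,145),(64,25)]),
  (577626241075642896, [(2,64),(87,17)]),
  (5390285393981735440, [(204,70),(159,17)]),
  (2350949378694841360, [(185,17),(72,164),(40,138)]),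
  (579345877796127760, [(6,123),(85,25),(66,27)]),
  (2931385967562458128, [(117,17),(36,206),(32,140)]),
  (9241439224941773328, [(153,17),(1,2)]),
  (9531921400907170320, [(2,141),(4,8),(153,19)]),
  (4665782003600720400, [(16,198),(28,200),(157,17)]),
  (5245620455624671760, [(146,77),(193,79),(66,145)]),
  (5245620458648240656, [(3,5),(80,23),(4,139)]),
  (5390302994757714448, [(2,137),(6,136),(219,19)]),
  (9242079140709270032, [(155,17),(2,205)]),
  (9236953217500316688, [(235,99),(96,23),(5,112)]),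
  (9419911952395797520, [(252,21),(2,152),(255,119)]),
  (3508427268144235536, [(9,99),(234,57),(104,47),(125,162)]),
  (4087649996377162768, [(4,152),(52,217),(37,23)]),
  (580524563120522256, [(37,78),(40,89),(11,115)]),
  (4088828672842138640, [(6,248),(217,17),(2,65)]),
  (918736536966017040, [(97,53),(225,71),(56,64),(80,146)]),
  (932251734699946000, [(115,139),(6,226),(51,21),(208,108)]),
  (4665782209759154704, [(12,246),(13,144),(129,62)])]

/-- the code is the code of a word times a reflection -/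
def chkO (p : ℕ × List (ℕ × ℕ)) : Bool :=
  p.2.all ok && (List.range 8).all fun i => ev p.2 (2 ^ i ^^^ (if Bn 136 (2 ^ i) then 136 else 0)) == col 8 p.1 i

theorem chkO_outs : outs.all chkO = true := by decide +kernel

theorem reps_split : reps = reps.take 39 ++ 9241421688590303745 :: outs.map Prod.fst := by decide +kernel

/-- a code of the table is the value on the basis -/
theorem rep_dec {x : O8} {c : ℕ} (h : act8.Rep x c) {i : ℕ} (hi : i < 8) :
    (x : V ≃ₗ[ZMod 2] V) (dec (2 ^ i)) = dec (col 8 c i) := by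
  have h1 : cd ((x : V ≃ₗ[ZMod 2] V) (dec (2 ^ i))) = col 8 c i := h i hi
  rw [← h1, dec_cd]

theorem notMem_of_rep {p : ℕ × List (ℕ × ℕ)} (hp : p ∈ outs) {x : O8} (hx : act8.Rep x p.1) :
    (x : V ≃ₗ[ZMod 2] V) ∉ Om := by
  intro h
  have h1 := List.all_eq_true.1 chkO_outs p hp
  rw [chkO, Bool.and_eq_true] at h1
  obtain ⟨h2, h3⟩ := h1
  have h4 : (x : V ≃ₗ[ZMod 2] V) = (word p.2 : Om) * refl q (dec 136) q136 := by
    apply lin_ext
    intro b hb
    obtain ⟨i, hi, rfl⟩ := mem_basis hb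
    rw [rep_dec hx hi, ← eq_of_beq (List.all_eq_true.1 h3 i (List.mem_range.2 hi))]
    show _ = ((word p.2 : Om) : V ≃ₗ[ZMod 2] V) (refl q (dec 136) q136 (dec (2 ^ i)))
    rw [refl_dec, word_dec h2]
  have h5 : refl q (dec 136) q136 = ((word p.2 : Om) : V ≃ₗ[ZMod 2] V)⁻¹ * (x : V ≃ₗ[ZMod 2] V) := by
    rw [h4, inv_mul_cancel_left]
  apply refl_notMem (dec 136) q136
  rw [h5]
  exact mul_mem (inv_mem (word p.2).2) h

/-- every element of `Om` is conjugate in `O8` to an element with one of the first forty codes -/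
theorem coverOm (x : Om) : ∃ c ∈ reps.take 39 ++ [9241421688590303745], ∃ (h : O8) (y : Om),
    (∀ i < 8, (y : V ≃ₗ[ZMod 2] V) (dec (2 ^ i)) = dec (col 8 c i)) ∧ x = Cfsg.Agent.StdO8.Aut.cj h y := by
  obtain ⟨c, hc, h, y, hy, e⟩ := cover ⟨x, Om_le x.2⟩
  have e' : (x : V ≃ₗ[ZMod 2] V) = (h : V ≃ₗ[ZMod 2] V) * y * (h : V ≃ₗ[ZMod 2] V)⁻¹ := congrArg Subtype.val e
  have hyO : (y : V ≃ₗ[ZMod 2] V) ∈ Om := by
    have h1 := (Cfsg.Agent.StdO8.Aut.cj h⁻¹ x).2
    rw [Cfsg.Agent.StdO8.Aut.cj_coe, e', Subgroup.coe_inv] at h1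
    have h2 : (h : V ≃ₗ[ZMod 2] V)⁻¹ * (h * y * (h : V ≃ₗ[ZMod 2] V)⁻¹) * ((h : V ≃ₗ[ZMod 2] V)⁻¹)⁻¹ = y := by group
    rwa [h2] at h1
  refine ⟨c, ?_, h, ⟨y, hyO⟩, fun i hi => rep_dec hy hi, Subtype.ext e'⟩
  rw [reps_split, List.mem_append, List.mem_cons] at hc
  rw [List.mem_append, List.mem_singleton]
  rcases hc with hc | hc | hc
  · exact Or.inl hc
  · exact Or.inr hc
  · obtain ⟨p, hp, rfl⟩ := List.mem_map.1 hc
    exact absurd hyO (notMem_of_rep hp hy)

theorem id_code : ∀ i < 8, col 8 9241421688590303745 i = 2 ^ i := by decide +kernel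

/-- every `x ≠ 1` in `Om` is conjugate in `O8` to an element with one of the first 39 codes -/
theorem coverOm' {x : Om} (hx : x ≠ 1) : ∃ c ∈ reps.take 39, ∃ (h : O8) (y : Om),
    (∀ i < 8, (y : V ≃ₗ[ZMod 2] V) (dec (2 ^ i)) = dec (col 8 c i)) ∧ x = Cfsg.Agent.StdO8.Aut.cj h y := by
  obtain ⟨c, hc, h, y, hy, e⟩ := coverOm x
  rw [List.mem_append, List.mem_singleton] at hc
  rcases hc with hc | rfl
  · exact ⟨c, hc, h, y, hy, e⟩
  · exfalso
    apply hx
    have h1 : y = 1 := by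
      apply Subtype.ext
      apply lin_ext
      intro b hb
      obtain ⟨i, hi, rfl⟩ := mem_basis hb
      rw [hy i hi, id_code i hi]
      rfl
    rw [e, h1, map_one]

end Cfsg.Agent.H201.O8

private theorem dce_279e6ec43eb7 : _root_.True := by
  try have : _root_.True := by simp only [_root_.Cfsg.Agent.H201.O8.chkO.eq_1]
  exact _root_.True.intro
end

-- part: H201/O8/Fin
section
set_option linter.all false

/-!
# Every element `≠ 1` of `Ω₈⁺(2)` is the commutator of a generating pair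
-/

set_option autoImplicit false

namespace Cfsg.Agent.H201.O8

open Cfsg.Agent.StdO8.Model Cfsg.Agent.StdO8.Code Cfsg.Agent.H612.Ore

theorem reps_data : reps.take 39 = Cfsg.Agent.H935.OreO8.data.map (·.c) := by decide +kernel

end Cfsg.Agent.H201.O8
end

-- part: H265/TF/Defs
section
prune_inst 0x200000007000000000180000000000600000010200400000004000000109000020450000022000121008045000000000000000c00020000000000800000000000028000080080000000000003001180c00000000000000000000000000000004000000000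
set_option linter.all false
open scoped Cfsg.Agent.FastGrp

/-!
# Triple covers: the pairing of commuting elements (helper265, for S2491, S2492: `3.Fi24'`)

`p : L → K` a perfect central extension with kernel of order 3.

* `Good p k` : every element of `L` over `k` is a commutator;
* `Tri p c x` : `c`, `x` commute in `K`, their lifts do not commute; then the lifts of `x` are fused (`Tri.fuse`);
* `Tri.symm`, `Tri.conj`, `Tri.mul_right`, `Tri.inv_right`, `Tri.inv_left`;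
* `Good.of_tri` (C1), `good_comm` (C2), `good_mul_of_conj_inv` : `x * y` with `Tri p c x` and `y` conjugate to `x⁻¹`.
-/

set_option autoImplicit false

namespace Cfsg.Agent.H265.TF

open Subgroup Cfsg.Agent.H51.Mult Cfsg.Agent.H777.Ore

universe u v

variable {L : Type u} {K : Type v} [Group L] [Group K]

/-- every element over `k` is a commutator -/
def Good (p : L →* K) (k : K) : Prop := ∀ g : L, p g = k → IsC g

/-- commuting elements with non-commuting lifts -/
def Tri (p : L →* K) (c x : K) : Prop := Commute c x ∧ ∃ a b : L, p a = c ∧ p b = x ∧ a * b ≠ b * a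

variable {p : L →* K}

theorem Good.conj {k : K} (h : Good p k) (hs : Function.Surjective p) (a : K) : Good p (a * k * a⁻¹) := by
  intro g hg
  obtain ⟨a, rfl⟩ := hs a
  have h1 : p (a⁻¹ * g * a) = k := by rw [map_mul, map_mul, map_inv, hg]; group
  have h2 := (h _ h1).conj a
  rwa [show a * (a⁻¹ * g * a) * a⁻¹ = g by group] at h2

theorem Good.of_conj {k : K} (hs : Function.Surjective p) (a : K) (h : Good p (a * k * a⁻¹)) : Good p k := by
  have h1 := h.conj hs a⁻¹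
  rwa [show a⁻¹ * (a * k * a⁻¹) * a⁻¹⁻¹ = k by group] at h1

/-- all lifts fail to commute -/
theorem Tri.all (hc : p.ker ≤ center L) {c x : K} (h : Tri p c x) {a b : L} (ha : p a = c) (hb : p b = x) :
    a * b ≠ b * a := by
  obtain ⟨-, a', b', ha', hb', h1⟩ := h
  intro h2
  apply h1
  have e1 : p (a⁻¹ * a') = 1 := by rw [map_mul, map_inv, ha, ha', inv_mul_cancel]
  have e2 : p (b⁻¹ * b') = 1 := by rw [map_mul, map_inv, hb, hb', inv_mul_cancel]
  have c1 := fun y => mem_center_iff.1 (hc e1) y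
  have c2 := fun y => mem_center_iff.1 (hc e2) y
  have f1 : a' = a * (a⁻¹ * a') := by group
  have f2 : b' = b * (b⁻¹ * b') := by group
  rw [f1, f2]
  generalize a⁻¹ * a' = u at *
  generalize b⁻¹ * b' = w at *
  calc a * u * (b * w) = a * (u * b) * w := by group
    _ = (a * b) * (u * w) := by rw [← c1 b]; group
    _ = (b * a) * (w * u) := by rw [h2, c2 u]
    _ = b * (a * w) * u := by group
    _ = b * w * (a * u) := by rw [c2 a]; group

theorem Tri.symm {c x : K} (h : Tri p c x) : Tri p x c := by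
  obtain ⟨h0, a, b, ha, hb, h1⟩ := h
  exact ⟨h0.symm, b, a, hb, ha, fun h => h1 h.symm⟩

theorem Tri.conj (hs : Function.Surjective p) {c x : K} (h : Tri p c x) (g : K) :
    Tri p (g * c * g⁻¹) (g * x * g⁻¹) := by
  obtain ⟨h0, a, b, ha, hb, h1⟩ := h
  obtain ⟨g, rfl⟩ := hs g
  refine ⟨?_, g * a * g⁻¹, g * b * g⁻¹, by rw [map_mul, map_mul, map_inv, ha], by rw [map_mul, map_mul, map_inv, hb], ?_⟩
  · show (p g * c * (p g)⁻¹) * (p g * x * (p g)⁻¹) = (p g * x * (p g)⁻¹) * (p g * c * (p g)⁻¹)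
    calc (p g * c * (p g)⁻¹) * (p g * x * (p g)⁻¹) = p g * (c * x) * (p g)⁻¹ := by group
      _ = p g * (x * c) * (p g)⁻¹ := by rw [h0.eq]
      _ = _ := by group
  · intro h2
    apply h1
    have h3 : g⁻¹ * ((g * a * g⁻¹) * (g * b * g⁻¹)) * g = g⁻¹ * ((g * b * g⁻¹) * (g * a * g⁻¹)) * g := by rw [h2]
    calc a * b = g⁻¹ * ((g * a * g⁻¹) * (g * b * g⁻¹)) * g := by group
      _ = g⁻¹ * ((g * b * g⁻¹) * (g * a * g⁻¹)) * g := h3
      _ = b * a := by group

/-- the commutator of two lifts of commuting elements is in the kernel -/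
theorem comm_ker {a b : L} (h : Commute (p a) (p b)) : a * b * a⁻¹ * b⁻¹ ∈ p.ker := by
  rw [MonoidHom.mem_ker]
  simp only [map_mul, map_inv]
  rw [h.eq]
  group

/-- multiplying `x` by an element of order prime to 3 which commutes with `c` -/
theorem Tri.mul_right (hs : Function.Surjective p) (hc : p.ker ≤ center L) (hk : Nat.card p.ker = 3) {c x v : K}
    (h : Tri p c x) (hv : Commute c v) {n : ℕ} (hn : v ^ n = 1) (h3 : n.Coprime 3) : Tri p c (x * v) := by
  obtain ⟨h0, a, b, rfl, rfl, h1⟩ := h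
  obtain ⟨w, rfl⟩ := hs v
  refine ⟨h0.mul_right hv, a, b * w, rfl, map_mul _ _ _, ?_⟩
  -- `a` and `w` commute
  have hz := comm_ker hv
  set z := a * w * a⁻¹ * w⁻¹ with hzd
  have hzc := fun y => mem_center_iff.1 (hc hz) y
  have hz3 : z ^ 3 = 1 := by
    have h2 : (⟨z, hz⟩ : p.ker) ^ 3 = 1 := by rw [← hk, pow_card_eq_one']
    exact congrArg Subtype.val h2
  have hzn : z ^ n = 1 := by
    have key : ∀ m : ℕ, a * w ^ m * a⁻¹ = z ^ m * w ^ m := by
      intro m
      induction m with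
      | zero => simp
      | succ m ih =>
        have e1 : a * w * a⁻¹ = z * w := by rw [hzd]; group
        calc a * w ^ (m + 1) * a⁻¹ = (a * w ^ m * a⁻¹) * (a * w * a⁻¹) := by rw [pow_succ]; group
          _ = z ^ m * w ^ m * (z * w) := by rw [ih, e1]
          _ = z ^ m * (w ^ m * z) * w := by group
          _ = z ^ m * (z * w ^ m) * w := by rw [hzc (w ^ m)]
          _ = z ^ (m + 1) * w ^ (m + 1) := by rw [pow_succ, pow_succ]; group
    have h4 : w ^ n ∈ p.ker := by rw [MonoidHom.mem_ker, map_pow, hn]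
    have h5 := mem_center_iff.1 (hc h4) a
    have h6 := key n
    rw [h5, mul_assoc, mul_inv_cancel, mul_one] at h6
    exact (right_eq_mul.1 h6)
  have hz1 : z = 1 := by
    have h7 : orderOf z ∣ Nat.gcd n 3 := Nat.dvd_gcd (orderOf_dvd_of_pow_eq_one hzn) (orderOf_dvd_of_pow_eq_one hz3)
    rw [h3.gcd_eq_one, Nat.dvd_one] at h7
    exact orderOf_eq_one_iff.1 h7
  have haw : a * w = w * a := by
    have e1 : a * w = z * (w * a) := by rw [hzd]; group
    rw [e1, hz1, one_mul]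
  intro h2
  apply h1
  have h3 : a * b * w = b * a * w := by
    calc a * b * w = a * (b * w) := by group
      _ = b * w * a := h2
      _ = b * (a * w) := by rw [haw]; group
      _ = _ := by group
  exact mul_right_cancel h3

/-- `c` may be multiplied too -/
theorem Tri.mul_left (hs : Function.Surjective p) (hc : p.ker ≤ center L) (hk : Nat.card p.ker = 3) {c x v : K}
    (h : Tri p c x) (hv : Commute x v) {n : ℕ} (hn : v ^ n = 1) (h3 : n.Coprime 3) : Tri p (c * v) x :=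
  (h.symm.mul_right hs hc hk hv hn h3).symm

theorem Tri.inv_right {c x : K} (h : Tri p c x) : Tri p c x⁻¹ := by
  obtain ⟨h0, a, b, ha, hb, h1⟩ := h
  refine ⟨h0.inv_right, a, b⁻¹, ha, by rw [map_inv, hb], fun h2 => h1 ?_⟩
  have h3 : Commute a b⁻¹⁻¹ := (show Commute a b⁻¹ from h2).inv_right
  rw [inv_inv] at h3
  exact h3.eq

theorem Tri.inv_left {c x : K} (h : Tri p c x) : Tri p c⁻¹ x := h.symm.inv_right.symm

/-- **the lifts are fused** -/
theorem Tri.fuse (hs : Function.Surjective p) (hc : p.ker ≤ center L) (hk : Nat.card p.ker = 3) {c x : K}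
    (h : Tri p c x) {g : L} (hg : p g = x) {ζ : L} (hζ : p ζ = 1) : IsConj g (g * ζ) := by
  obtain ⟨a, ha⟩ := hs c
  have h1 := h.all hc ha hg
  have h0 := h.1
  rw [← ha, ← hg] at h0
  have hz := comm_ker h0
  set z := a * g * a⁻¹ * g⁻¹ with hzd
  have hz1 : z ≠ 1 := by
    intro h2
    apply h1
    have e1 : a * g = z * (g * a) := by rw [hzd]; group
    rw [e1, h2, one_mul]
  have hzc := fun y => mem_center_iff.1 (hc hz) y
  have hfin : Finite p.ker := Nat.finite_of_card_ne_zero (by rw [hk]; norm_num)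
  -- `ζ` is a power of `z`
  have hgen : (⟨ζ, hζ⟩ : p.ker) ∈ zpowers (⟨z, hz⟩ : p.ker) := by
    have h3 : zpowers (⟨z, hz⟩ : p.ker) = ⊤ := by
      have : Fact (Nat.Prime 3) := ⟨Nat.prime_three⟩
      have hne : (⟨z, hz⟩ : p.ker) ≠ 1 := fun h => hz1 (congrArg Subtype.val h)
      exact zpowers_eq_top_of_prime_card hk hne
    rw [h3]; exact mem_top _
  obtain ⟨n, hn⟩ := mem_zpowers_iff.1 hgen
  have hn' : z ^ n = ζ := congrArg Subtype.val hn
  refine isConj_iff.2 ⟨a ^ n, ?_⟩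
  -- conjugation by `a` multiplies by `z`
  have e1 : a * g * a⁻¹ = g * z := by
    have : a * g * a⁻¹ = z * g := by rw [hzd]; group
    rw [this, hzc g]
  have key : ∀ m : ℕ, a ^ m * g * (a ^ m)⁻¹ = g * z ^ m := by
    intro m
    induction m with
    | zero => simp
    | succ m ih =>
      have h2 : a ^ m * z = z * a ^ m := hzc (a ^ m)
      have h2' : a ^ m * z * (a ^ m)⁻¹ = z := by rw [h2, mul_assoc, mul_inv_cancel, mul_one]
      calc a ^ (m + 1) * g * (a ^ (m + 1))⁻¹ = a ^ m * (a * g * a⁻¹) * (a ^ m)⁻¹ := by rw [pow_succ]; group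
        _ = (a ^ m * g * (a ^ m)⁻¹) * (a ^ m * z * (a ^ m)⁻¹) := by rw [e1]; group
        _ = g * z ^ m * z := by rw [ih, h2']
        _ = g * z ^ (m + 1) := by rw [mul_assoc, ← pow_succ]
  rcases Int.eq_nat_or_neg n with ⟨m, rfl | rfl⟩
  · rw [zpow_natCast] at hn' ⊢
    rw [key m, hn']
  · have h5 : z ^ m = ζ⁻¹ := by
      rw [← hn', zpow_neg, zpow_natCast, inv_inv]
    have h6 := key m
    rw [h5] at h6
    rw [zpow_neg, zpow_natCast, inv_inv]
    have hζc := fun y => mem_center_iff.1 (hc hζ) y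
    calc (a ^ m)⁻¹ * g * a ^ m = (a ^ m)⁻¹ * (g * ζ⁻¹) * ζ * a ^ m := by group
      _ = (a ^ m)⁻¹ * (a ^ m * g * (a ^ m)⁻¹) * (ζ * a ^ m) := by rw [h6]; group
      _ = (a ^ m)⁻¹ * (a ^ m * g * (a ^ m)⁻¹) * (a ^ m * ζ) := by rw [hζc (a ^ m)]
      _ = g * ζ := by group

/-- **(C1)** -/
theorem Good.of_tri (hs : Function.Surjective p) (hc : p.ker ≤ center L) (hk : Nat.card p.ker = 3) {c x : K}
    (h : Tri p c x) (hx : IsC x) : Good p x := by
  intro g hg
  exact H6.QO.isC_of_conj_all hs (by rw [hg]; exact hx) fun ζ hζ => h.fuse hs hc hk hg hζ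

/-- **(C2)** -/
theorem good_comm (hs : Function.Surjective p) (hc : p.ker ≤ center L) (hk : Nat.card p.ker = 3) {c x : K}
    (h : Tri p c x) (y : K) : Good p (x * y * x⁻¹ * y⁻¹) := by
  intro g hg
  obtain ⟨x', rfl⟩ := hs x
  exact H6.QO.isC_of_pair hs hc hg fun ζ hζ => h.fuse hs hc hk rfl hζ

/-- a product of a fused element and of a conjugate of its inverse -/
theorem good_mul (hs : Function.Surjective p) (hc : p.ker ≤ center L) (hk : Nat.card p.ker = 3) {c x y g : K}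
    (h : Tri p c x) (hy : g * x * g⁻¹ = y⁻¹) : Good p (x * y) := by
  have h1 := good_comm hs hc hk h g
  have h2 : y = g * x⁻¹ * g⁻¹ := by
    rw [← inv_inv y, ← hy]; group
  rw [h2]
  rwa [show x * (g * x⁻¹ * g⁻¹) = x * g * x⁻¹ * g⁻¹ by group]

end Cfsg.Agent.H265.TF
end

-- part: H265/TF/Zeta
section
set_option linter.all false
open scoped Cfsg.Agent.FastGrp

/-!
# `3.Fi24'`: commuting elements of order 3 with non-commuting lifts (helper265, for S2491, S2492)

* `wK`, `wP`, `wL` : words in `Fi24'`, in the presented triple cover `P3`, in `L3`;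
* `tri_of_chk` : `Tri π3` from two kernel checks (commuting on 306936 points, not commuting at a point of the 920808);
* `tri_lk : Tri π3 c0 s0`, `s0 = l k` (class 3A), `c0 = b t` with a transposition `t` of another reflection class of
  `C(s0)`.
-/

set_option autoImplicit false
set_option maxRecDepth 100000
set_option Elab.async false

namespace Cfsg.Agent.H265.TF

open Cfsg Subgroup Cfsg.Agent.H51.Mult Cfsg.Agent.H777.Ore
open Cfsg.Spor.Fi24 (Gen)
open Cfsg.Agent.H52.ThreeFi24 Cfsg.Agent.H52.ThreeFi24Chk Cfsg.Agent.R08.TThree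
open Cfsg.Agent.Fischer.Fi24Rep (gen word)
open Cfsg.Agent.Fischer.Fi24Spider (word_append word_cons word_nil)
open Cfsg.Agent.H827.CocoD (word_mem word_reverse)
open Cfsg.Agent.LThreeFi24.FiveConj (eqB eq_of_eqB)
open Cfsg.Agent.R08.TVar
open Cfsg.Agent.Fischer.TriDef Cfsg.Agent.Lib.PermNet

/-- the word in the presented triple cover -/
def wP (l : List Gen) : P3 := (l.map y).prod

theorem wP_append (l l' : List Gen) : wP (l ++ l') = wP l * wP l' := by
  unfold wP; rw [List.map_append, List.prod_append]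

theorem wP_cons (x : Gen) (l : List Gen) : wP (x :: l) = y x * wP l := by
  unfold wP; rw [List.map_cons, List.prod_cons]

theorem wP_nil : wP [] = 1 := rfl

theorem y_sq (s : Gen) : y s * y s = 1 := rel3_P.sq s

theorem wP_reverse (l : List Gen) : wP l.reverse = (wP l)⁻¹ := by
  induction l with
  | nil => rw [List.reverse_nil, wP_nil, inv_one]
  | cons x l ih =>
    rw [List.reverse_cons, wP_append, ih, wP_cons, wP_cons, wP_nil, mul_one, mul_inv_rev]
    congr 1
    exact (inv_eq_of_mul_eq_one_left (y_sq x)).symm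

theorem q3_wP (l : List Gen) : q3 (wP l) = word l := by
  induction l with
  | nil => rw [wP_nil, map_one, word_nil]
  | cons x l ih => rw [wP_cons, map_mul, ih, word_cons]; congr 1

theorem wP_mem {l : List Gen} (h : l.length % 2 = 0) : wP l ∈ commutator P3 := by
  induction l using List.twoStepInduction with
  | nil => exact one_mem _
  | singleton x => simp at h
  | cons_cons x z l ih _ =>
    rw [wP_cons, wP_cons, ← mul_assoc]
    refine mul_mem (mul_mem_comm x z) (ih ?_)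
    rw [List.length_cons, List.length_cons] at h
    omega

/-- the word in `Fi24'` -/
noncomputable def wK (l : List Gen) (h : l.length % 2 = 0) : Spor.Fi24' := ⟨word l, word_mem h⟩

/-- the word in the triple cover `L3` -/
noncomputable def wL (l : List Gen) (h : l.length % 2 = 0) : L3 := ⟨wP l, wP_mem h⟩

theorem π3_wL (l : List Gen) (h : l.length % 2 = 0) : π3 (wL l h) = wK l h := Subtype.ext (q3_wP l)

/-- the image of the point `0` under a word -/
theorem im_eq (l : List Gen) : im l = (l.map T.rho).prod 0 := by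
  rw [im, ptWord_eq (okT.wok _ _), (okT.wperm_nw _).1]

theorem toW3_wP (l : List Gen) : toW3 rel3_rho (wP l) = (l.map T.rho).prod := by
  rw [wP, map_list_prod, List.map_map]
  have : (toW3 rel3_rho) ∘ y = T.rho := by
    funext s; exact toW3_of rel3_rho s
  rw [this]

/-- a word which moves the point `0` is not trivial in the triple cover -/
theorem wP_ne {l : List Gen} (h : Nat.beq (im l) 0 = false) : wP l ≠ 1 := by
  intro h1
  rw [im_eq, ← toW3_wP, h1, map_one] at h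
  exact absurd h (by decide)

theorem wP_comm_ne {c x : List Gen} (h : Nat.beq (im (c ++ x ++ c.reverse ++ x.reverse)) 0 = false) :
    wP c * wP x ≠ wP x * wP c := by
  intro h1
  apply wP_ne h
  rw [wP_append, wP_append, wP_append, wP_reverse, wP_reverse, h1]
  group

/-- **`Tri π3` from two kernel checks** -/
theorem tri_of_chk {c x : List Gen} (hc : c.length % 2 = 0) (hx : x.length % 2 = 0) (h1 : eqB (c ++ x) (x ++ c) = true)
    (h2 : Nat.beq (im (c ++ x ++ c.reverse ++ x.reverse)) 0 = false) : Tri π3 (wK c hc) (wK x hx) := by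
  refine ⟨Subtype.ext ?_, wL c hc, wL x hx, π3_wL _ _, π3_wL _ _, fun h => wP_comm_ne h2 (congrArg Subtype.val h)⟩
  show word c * word x = word x * word c
  rw [← word_append, ← word_append]
  exact eq_of_eqB h1

theorem card_ker_L3 : Nat.card π3.ker = 3 := by
  have h1 : Nat.card π3.ker ∣ 3 := by
    rw [← card_ker]
    let ι : π3.ker →* q3.ker := MonoidHom.mk' (fun z => ⟨z.1.1, by
      rw [MonoidHom.mem_ker, ← π3_coe, MonoidHom.mem_ker.1 z.2]; rfl⟩) (fun _ _ => rfl)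
    refine Subgroup.card_dvd_of_injective ι ?_
    intro a b hab
    have h2 : (a.1.1 : P3) = b.1.1 := congrArg (fun z : q3.ker => (z : P3)) hab
    exact Subtype.ext (Subtype.ext h2)
  exact Nat.dvd_antisymm h1 card_ker_π3

/-! ### the first pair -/

/-- a transposition commuting with `l` and `k`, in another reflection class of `PΩ8+(3) : S3` than `b` -/
def tpw : List Gen := [.a,.b,.c,.d,.h,.i,.e,.d,.h,.f,.g,.e,.f,.c,.d,.e,.b,.c,.d,.h,.i,.f,.d,.e,.b,.c,.d,.h,.j,.g,.f,.e,.d,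
  .c,.b,.a,.b,.c,.d,.e,.f,.g,.j,.h,.d,.c,.b,.e,.d,.f,.i,.h,.d,.c,.b,.e,.d,.c,.f,.e,.g,.f,.h,.d,.e,.i,.h,.d,.c,.b,.a]

def cw0 : List Gen := .b :: tpw
def sw0 : List Gen := [.l, .k]

theorem chk_comm0 : eqB (cw0 ++ sw0) (sw0 ++ cw0) = true := by decide +kernel
theorem chk_ne0 : Nat.beq (im (cw0 ++ sw0 ++ cw0.reverse ++ sw0.reverse)) 0 = false := by decide +kernel

/-- an element of class `3A` -/
noncomputable def s0 : Spor.Fi24' := wK sw0 rfl

/-- a triality element of `C(s0)`, of class `3A` -/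
noncomputable def c0 : Spor.Fi24' := wK cw0 rfl

/-- **(R1)** -/
theorem tri_lk : Tri π3 c0 s0 := tri_of_chk rfl rfl chk_comm0 chk_ne0

end Cfsg.Agent.H265.TF

private theorem dce_eccf8f9d0f9b : _root_.True := by
  try have : _root_.True := by simp only [_root_.Cfsg.Agent.H265.TF.wP.eq_1]
  exact _root_.True.intro
end

-- part: H265/TF/Six
section
set_option linter.all false
open scoped Cfsg.Agent.FastGrp

/-!
# `3.Fi24'`: every lift of an element of order 3 of `Fi24'` is a commutator (helper265, for S2491, S2492)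

* `Good.conj24` : the property is invariant under `Fi24`;
* `good_word` : a product of two elements of class `3A`;
* `six` : **(R6)** the elements with `s ^ 3 = 1`.
-/

set_option autoImplicit false
set_option maxRecDepth 100000
set_option Elab.async false

namespace Cfsg.Agent.H265.TF

open Cfsg Subgroup Cfsg.Agent.H51.Mult Cfsg.Agent.H777.Ore
open Cfsg.Spor.Fi24 (Gen)
open Cfsg.Agent.H52.ThreeFi24 Cfsg.Agent.H52.ThreeFi24Chk Cfsg.Agent.R08.TThree
open Cfsg.Agent.Fischer.Fi24Rep (gen word)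
open Cfsg.Agent.Fischer.Fi24Spider (word_append word_cons word_nil)
open Cfsg.Agent.H827.CocoD (word_mem word_reverse)
open Cfsg.Agent.LThreeFi24.FiveConj (eqB eq_of_eqB)
open Cfsg.Spor (Fi24)

/-- conjugation by an element of `Fi24` -/
noncomputable def cj (g : Fi24) (k : Spor.Fi24') : Spor.Fi24' :=
  ⟨g * k * g⁻¹, (inferInstance : (commutator Fi24).Normal).conj_mem _ k.2 g⟩

theorem Good.conj24 {k : Spor.Fi24'} (h : Good π3 k) (g : Fi24) : Good π3 (cj g k) := by
  obtain ⟨G, rfl⟩ := q3_surj g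
  intro m hm
  have hn : (commutator P3).Normal := inferInstance
  set m' : L3 := ⟨G⁻¹ * m * G, by
    have h1 := hn.conj_mem _ m.2 G⁻¹
    rwa [inv_inv] at h1⟩ with hm'
  have h1 : π3 m' = k := by
    apply Subtype.ext
    rw [π3_coe]
    show q3 (G⁻¹ * m * G) = k
    have h2 := congrArg Subtype.val hm
    rw [π3_coe] at h2
    have h3 : q3 (m : P3) = q3 G * k * (q3 G)⁻¹ := h2
    rw [map_mul, map_mul, map_inv, h3]
    group
  obtain ⟨a, b, hab⟩ := h m' h1
  refine ⟨⟨G * a * G⁻¹, hn.conj_mem _ a.2 G⟩, ⟨G * b * G⁻¹, hn.conj_mem _ b.2 G⟩, Subtype.ext ?_⟩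
  have h4 : G⁻¹ * (m : P3) * G = (a : P3) * b * (a : P3)⁻¹ * (b : P3)⁻¹ := congrArg Subtype.val hab
  show (m : P3) = (G * a * G⁻¹) * (G * b * G⁻¹) * (G * a * G⁻¹)⁻¹ * (G * b * G⁻¹)⁻¹
  calc (m : P3) = G * (G⁻¹ * (m : P3) * G) * G⁻¹ := by group
    _ = G * ((a : P3) * b * (a : P3)⁻¹ * (b : P3)⁻¹) * G⁻¹ := by rw [h4]
    _ = _ := by group

theorem Good.of_conj24 {k : Spor.Fi24'} (g : Fi24) (h : Good π3 (cj g k)) : Good π3 k := by
  have h1 := h.conj24 g⁻¹
  have h2 : cj g⁻¹ (cj g k) = k := by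
    apply Subtype.ext
    show g⁻¹ * (g * k * g⁻¹) * g⁻¹⁻¹ = (k : Fi24)
    group
  rwa [h2] at h1

/-- inverses -/
theorem Good.inv {k : Spor.Fi24'} (h : Good π3 k) : Good π3 k⁻¹ := by
  intro g hg
  obtain ⟨a, b, hab⟩ := h g⁻¹ (by rw [map_inv, hg, inv_inv])
  refine ⟨b, a, ?_⟩
  rw [← inv_inv g, hab]
  group

theorem hs3 : Function.Surjective π3 := pce.surj
theorem hc3 : π3.ker ≤ center L3 := pce.cen

/-- **a product of two elements of class `3A`** -/
theorem good_word {g h w : List Gen} (hg : g.length % 2 = 0) (hh : h.length % 2 = 0) (hw : w.length % 2 = 0)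
    (chk : eqB (g ++ sw0 ++ g.reverse ++ (h ++ sw0.reverse ++ h.reverse)) w = true) : Good π3 (wK w hw) := by
  have h1 := tri_lk.conj hs3 (wK g hg)
  have h2 : (wK h hh * (wK g hg)⁻¹) * (wK g hg * s0 * (wK g hg)⁻¹) * (wK h hh * (wK g hg)⁻¹)⁻¹ =
      (wK h hh * s0⁻¹ * (wK h hh)⁻¹)⁻¹ := by group
  have h3 := good_mul hs3 hc3 card_ker_L3 h1 h2
  have h4 : wK g hg * s0 * (wK g hg)⁻¹ * (wK h hh * s0⁻¹ * (wK h hh)⁻¹) = wK w hw := by
    apply Subtype.ext
    show word g * word sw0 * (word g)⁻¹ * (word h * (word sw0)⁻¹ * (word h)⁻¹) = word w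
    rw [← eq_of_eqB chk]
    simp only [word_append, word_reverse]
  rwa [h4] at h3

/-! ### the five classes -/

theorem one : Good π3 (1 : Spor.Fi24') := by
  have h := good_comm hs3 hc3 card_ker_L3 tri_lk 1
  rwa [show s0 * 1 * s0⁻¹ * 1⁻¹ = (1 : Spor.Fi24') by group] at h

/-- every element with `s ^ 3 = 1` is a commutator in `Fi24'` -/
theorem isC_three {s : Spor.Fi24'} (hs : s ^ 3 = 1) : IsC s := by
  obtain ⟨a, b, h⟩ := H49.Four.ThreeInv.three_comm hs
  exact ⟨a, b, h.symm⟩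

def X1 : List Gen := [.l,.k,.b,.c]
def X2 : List Gen := LThreeFi24.TwinK.wx3
def X3 : List Gen := [.l,.k,.b,.c,.e,.f]
def X4 : List Gen := H842.FrameK.x5w

def g1 : List Gen := []
def h1 : List Gen := [.l,.k,.a,.b,.c,.l,.k,.a,.b,.l,.k,.a,.l,.k,.l,.e]
def g2 : List Gen := [.a,.b,.k,.a,.l,.k,.c,.d,.e,.f,.b,.c,.d,.e,.a,.b,.c,.d,.h,.i,.g,.f,.e,.d,.h,.j,.g,.f,.e,.d,.c,.b,.a,.l,.g,.f,.d,.e,.c,
  .d,.h,.i,.b,.c,.d,.h,.e,.f,.g,.j,.d,.e,.f,.g,.i,.h,.f,.d,.e,.c,.d,.h,.i,.c,.d,.h,.e,.f,.d,.e,.c,.d,.h,.b,.c,.d,.e,.f,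
  .g,.j,.e,.d,.h,.i,.b,.c,.d,.c]
def h2 : List Gen := [.d,.e,.k,.a,.b,.c,.d,.h,.f,.g,.e,.f,.d,.e,.b,.c,.d,.h,.i,.e,.f,.d,.e,.b,.c,.d,.h,.j,.g,.f,.e,.d,.c,.b,.a,.k,.b,.c,.d,
  .h,.e,.f,.d,.e,.b,.c,.d,.h,.i,.g,.e,.f,.d,.e,.b,.c,.d,.h,.j,.g,.f,.e,.d,.c,.b,.a,.l,.h,.g,.j,.c,.d,.e,.f,.g,.i,.h,.d,
  .e,.c,.d,.h,.i,.h,.f,.c,.d,.e,.b,.c,.d,.h,.d,.e,.d,.b,.c,.d,.k,.a,.i,.k]
def c3 : List Gen := [.h,.a,.b,.c,.d,.h,.i,.e,.d,.h,.f,.g,.e,.f,.c,.d,.e,.b,.c,.d,.h,.i,.e,.f,.d,.e,.b,.c,.d,.h,.j,.g,.f,.e,.d,.c,.b,.a,.b,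
  .c,.d,.e,.f,.g,.j,.h,.d,.c,.b,.e,.d,.f,.e,.i,.h,.d,.c,.b,.e,.d,.c,.f,.e,.g,.f,.h,.d,.e,.i,.h,.d,.c,.b,.a]
def c4 : List Gen := [.e,.c,.d,.h,.e,.f,.c,.d,.e,.b,.c,.d,.h,.i,.g,.f,.d,.e,.c,.d,.h,.j,.g,.f,.e,.d,.c,.b,.k,.a,.k,.b,.c,.d,.e,.f,.g,.j,.h,
  .d,.c,.e,.d,.f,.g,.i,.h,.d,.c,.b,.e,.d,.c,.f,.e,.h,.d,.c,.e,.j,.g,.f,.c,.d,.e,.b,.c,.d,.h,.i,.c,.d,.e,.b,.c,.d,.h,.j,
  .g,.f,.e,.d,.c,.b,.l,.k,.a,.k,.l,.b,.c,.d,.e,.f,.g,.j,.h,.d,.c,.b,.e,.d,.c,.i,.h,.d,.c,.b,.e,.d,.c,.f,.g,.j]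

theorem chk1 : eqB (g1 ++ sw0 ++ g1.reverse ++ (h1 ++ sw0.reverse ++ h1.reverse)) X1 = true := by decide +kernel
theorem chk2 : eqB (g2 ++ sw0 ++ g2.reverse ++ (h2 ++ sw0.reverse ++ h2.reverse)) X2 = true := by (rewrite [show @Cfsg.Agent.LThreeFi24.FiveConj.eqB = delta% @Cfsg.Agent.LThreeFi24.FiveConj.eqB from by delta Cfsg.Agent.LThreeFi24.FiveConj.eqB; rfl, show @Cfsg.Agent.LThreeFi24.FiveConj.eqL = delta% @Cfsg.Agent.LThreeFi24.FiveConj.eqL from by delta Cfsg.Agent.LThreeFi24.FiveConj.eqL; rfl, show @Cfsg.Agent.LThreeFi24.FiveConj.eqL._f = delta% @Cfsg.Agent.LThreeFi24.FiveConj.eqL._f from by delta Cfsg.Agent.LThreeFi24.FiveConj.eqL._f; rfl, Cfsg.Agent.Lib.PermNetFast.winv_fast]; decide +kernel)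
theorem chk3 : eqB (c3 ++ X3) (X3 ++ c3) = true := by (rewrite [show @Cfsg.Agent.LThreeFi24.FiveConj.eqB = delta% @Cfsg.Agent.LThreeFi24.FiveConj.eqB from by delta Cfsg.Agent.LThreeFi24.FiveConj.eqB; rfl, show @Cfsg.Agent.LThreeFi24.FiveConj.eqL = delta% @Cfsg.Agent.LThreeFi24.FiveConj.eqL from by delta Cfsg.Agent.LThreeFi24.FiveConj.eqL; rfl, show @Cfsg.Agent.LThreeFi24.FiveConj.eqL._f = delta% @Cfsg.Agent.LThreeFi24.FiveConj.eqL._f from by delta Cfsg.Agent.LThreeFi24.FiveConj.eqL._f; rfl, Cfsg.Agent.Lib.PermNetFast.winv_fast]; decide +kernel)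
theorem chk3' : Nat.beq (im (c3 ++ X3 ++ c3.reverse ++ X3.reverse)) 0 = false := by decide +kernel
theorem chk4 : eqB (c4 ++ X4) (X4 ++ c4) = true := by (rewrite [show @Cfsg.Agent.LThreeFi24.FiveConj.eqB = delta% @Cfsg.Agent.LThreeFi24.FiveConj.eqB from by delta Cfsg.Agent.LThreeFi24.FiveConj.eqB; rfl, show @Cfsg.Agent.LThreeFi24.FiveConj.eqL = delta% @Cfsg.Agent.LThreeFi24.FiveConj.eqL from by delta Cfsg.Agent.LThreeFi24.FiveConj.eqL; rfl, show @Cfsg.Agent.LThreeFi24.FiveConj.eqL._f = delta% @Cfsg.Agent.LThreeFi24.FiveConj.eqL._f from by delta Cfsg.Agent.LThreeFi24.FiveConj.eqL._f; rfl, Cfsg.Agent.Lib.PermNetFast.winv_fast]; decide +kernel)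
theorem chk4' : Nat.beq (im (c4 ++ X4 ++ c4.reverse ++ X4.reverse)) 0 = false := by (rewrite [show @Cfsg.Agent.H52.ThreeFi24Chk.im = delta% @Cfsg.Agent.H52.ThreeFi24Chk.im from by delta Cfsg.Agent.H52.ThreeFi24Chk.im; rfl, Cfsg.Agent.Lib.PermNetFast.ptWord_fast]; decide +kernel)
theorem cube3 : eqB (X3 ++ X3 ++ X3) [] = true := by decide +kernel
theorem cube4 : eqB (X4 ++ X4 ++ X4) [] = true := by (rewrite [show @Cfsg.Agent.LThreeFi24.FiveConj.eqB = delta% @Cfsg.Agent.LThreeFi24.FiveConj.eqB from by delta Cfsg.Agent.LThreeFi24.FiveConj.eqB; rfl, show @Cfsg.Agent.LThreeFi24.FiveConj.eqL = delta% @Cfsg.Agent.LThreeFi24.FiveConj.eqL from by delta Cfsg.Agent.LThreeFi24.FiveConj.eqL; rfl, show @Cfsg.Agent.LThreeFi24.FiveConj.eqL._f = delta% @Cfsg.Agent.LThreeFi24.FiveConj.eqL._f from by delta Cfsg.Agent.LThreeFi24.FiveConj.eqL._f; rfl, Cfsg.Agent.Lib.PermNetFast.winv_fast]; decide +kernel)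

/-- the elements of class `3D` are fused -/
theorem tri3 : Tri π3 (wK c3 rfl) (wK X3 rfl) := tri_of_chk rfl rfl chk3 chk3'

/-- the elements of class `3E` are fused -/
theorem tri4 : Tri π3 (wK c4 rfl) (wK X4 rfl) := tri_of_chk rfl rfl chk4 chk4'

theorem cube_wK {w : List Gen} (hw : w.length % 2 = 0) (h : eqB (w ++ w ++ w) [] = true) : (wK w hw) ^ 3 = 1 := by
  apply Subtype.ext
  have h1 := eq_of_eqB h
  rw [word_append, word_append, word_nil] at h1
  show (word w) ^ 3 = 1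
  rw [pow_succ, pow_two, h1]

theorem cube_s0 : s0 ^ 3 = 1 := cube_wK rfl (by decide +kernel)

theorem goodX0 : Good π3 s0 := Good.of_tri hs3 hc3 card_ker_L3 tri_lk (isC_three cube_s0)
theorem goodX1 : Good π3 (wK X1 rfl) := good_word rfl rfl rfl chk1
theorem goodX2 : Good π3 (wK X2 rfl) := good_word rfl rfl rfl chk2
theorem goodX3 : Good π3 (wK X3 rfl) := Good.of_tri hs3 hc3 card_ker_L3 tri3 (isC_three (cube_wK rfl cube3))
theorem goodX4 : Good π3 (wK X4 rfl) := Good.of_tri hs3 hc3 card_ker_L3 tri4 (isC_three (cube_wK rfl cube4))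

theorem goodX (i : Fin 5) : ∃ k : Spor.Fi24', (k : Fi24) = H842.ThreeCl.X i ∧ Good π3 k := by
  fin_cases i
  · exact ⟨s0, by show word sw0 = gen .l * gen .k; simp [sw0, word_cons, word_nil], goodX0⟩
  · exact ⟨_, rfl, goodX1⟩
  · exact ⟨_, rfl, goodX2⟩
  · exact ⟨_, rfl, goodX3⟩
  · exact ⟨_, rfl, goodX4⟩

/-- **(R6)** -/
theorem six {s : Spor.Fi24'} (hs : s ^ 3 = 1) : Good π3 s := by
  by_cases h1 : s = 1
  · rw [h1]; exact one
  obtain ⟨i, g, h⟩ := H842.ThreeCl.all H49.Four.TEight.fgroup24' H49.Four.TEight.isT8 (y := (s : Fi24))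
    (by have := congrArg Subtype.val hs; simpa using this) (fun h => h1 (Subtype.ext h))
  obtain ⟨k, hk, hgood⟩ := goodX i
  refine Good.of_conj24 g ?_
  rcases h with h | h
  · have e : cj g s = k := Subtype.ext (h.trans hk.symm)
    rw [e]; exact hgood
  · have e : cj g s = k⁻¹ := Subtype.ext (h.trans (by rw [← hk]; rfl))
    rw [e]; exact hgood.inv

end Cfsg.Agent.H265.TF

private theorem dce_b143fae0ff56 : _root_.True := by
  try have : _root_.True := by simp only [_root_.Cfsg.Agent.H265.TF.wK.congr_simp]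
  try have : _root_.True := by simp only [_root_.Cfsg.Agent.H265.TF.sw0.eq_1]
  exact _root_.True.intro
end

-- part: H265/TF/Two
section
prune_inst 0x4000000000000000000000402000010200000000000000000008000000000000000002121008000000000000000000c00000000000000800400000000028000000000000010000009001180c00000000000000000000000000000004000000000
set_option linter.all false
open scoped Cfsg.Agent.FastGrp

-- part: H265/TF/Coset
section
/-!
# The coset lemma for `2^11 . M24` (helper265, for S2491, S2492)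

`cover` : `s`, `y` in `N`, a word in `s`, `y` of order 23 modulo `A`, `h` over `[s, y]`: then `h = [s x, y t]` with
`x`, `t` in `A`.
-/

set_option autoImplicit false

open Cfsg Subgroup

namespace Cfsg.Agent.H265.TF.Coset

open Cfsg.Agent.H854.Ore Cfsg.Agent.H777.Ore

variable {G : Type*} [Group G] [Finite G] {A N : Subgroup G} {π : N →* M24}

theorem sqi (H : MExt A N π) {x : G} (hx : x ∈ A) : x⁻¹ = x := inv_eq_of_mul_eq_one_left (H.sq x hx)

/-- the products of commutators -/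
def R (H : MExt A N π) (s y : N) : Subgroup G where
  carrier := {v | v ∈ A ∧ ∃ x ∈ A, ∃ t ∈ A, v = x * (y * x⁻¹ * (y : G)⁻¹) * (y * t * (y : G)⁻¹) * (y * (s : G)⁻¹ * t⁻¹ * s * (y : G)⁻¹)}
  one_mem' := ⟨A.one_mem, 1, A.one_mem, 1, A.one_mem, by group⟩
  mul_mem' := by
    rintro v v' ⟨hv, x, hx, t, ht, rfl⟩ ⟨hv', x', hx', t', ht', rfl⟩
    refine ⟨A.mul_mem hv hv', x * x', A.mul_mem hx hx', t * t', A.mul_mem ht ht', ?_⟩
    have a1 : ∀ u ∈ A, (y : G) * u * (y : G)⁻¹ ∈ A := fun u hu => H.nconj y hu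
    have a2 : ∀ u ∈ A, (y : G) * (s : G)⁻¹ * u * s * (y : G)⁻¹ ∈ A := fun u hu => by
      have h1 := H.nconj (y * s⁻¹) hu
      push_cast at h1
      rwa [show (y : G) * (s : G)⁻¹ * u * ((y : G) * (s : G)⁻¹)⁻¹ = (y : G) * (s : G)⁻¹ * u * s * (y : G)⁻¹ by group] at h1
    have e1 : (y : G) * (x * x')⁻¹ * (y : G)⁻¹ = ((y : G) * x⁻¹ * (y : G)⁻¹) * (y * x'⁻¹ * (y : G)⁻¹) := by
      rw [mul_inv_rev, H.comm (A.inv_mem hx') (A.inv_mem hx)]; group
    have e2 : (y : G) * (s : G)⁻¹ * (t * t')⁻¹ * s * (y : G)⁻¹ =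
        ((y : G) * (s : G)⁻¹ * t⁻¹ * s * (y : G)⁻¹) * (y * (s : G)⁻¹ * t'⁻¹ * s * (y : G)⁻¹) := by
      rw [mul_inv_rev, H.comm (A.inv_mem ht') (A.inv_mem ht)]; group
    have e3 : (y : G) * (t * t') * (y : G)⁻¹ = (y * t * (y : G)⁻¹) * (y * t' * (y : G)⁻¹) := by group
    rw [e1, e2, e3]
    have m1 := a1 _ (A.inv_mem hx)
    have m1' := a1 _ (A.inv_mem hx')
    have m2 := a1 _ ht
    have m2' := a1 _ ht'
    have m3 := a2 _ (A.inv_mem ht)
    have m3' := a2 _ (A.inv_mem ht')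
    generalize (y : G) * x⁻¹ * (y : G)⁻¹ = p1 at m1 ⊢
    generalize (y : G) * x'⁻¹ * (y : G)⁻¹ = p1' at m1' ⊢
    generalize (y : G) * t * (y : G)⁻¹ = p2 at m2 ⊢
    generalize (y : G) * t' * (y : G)⁻¹ = p2' at m2' ⊢
    generalize (y : G) * (s : G)⁻¹ * t⁻¹ * s * (y : G)⁻¹ = p3 at m3 ⊢
    generalize (y : G) * (s : G)⁻¹ * t'⁻¹ * s * (y : G)⁻¹ = p3' at m3' ⊢
    have c := fun {a b : G} (ha : a ∈ A) (hb : b ∈ A) => H.comm ha hb
    calc x * p1 * p2 * p3 * (x' * p1' * p2' * p3') = x * p1 * p2 * (p3 * x') * p1' * p2' * p3' := by group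
      _ = x * p1 * (p2 * x') * (p3 * p1') * p2' * p3' := by rw [c m3 hx']; group
      _ = x * (p1 * x') * (p2 * p1') * (p3 * p2') * p3' := by rw [c m2 hx', c m3 m1']; group
      _ = x * x' * p1 * (p1' * p2) * (p2' * p3) * p3' := by rw [c m1 hx', c m2 m1', c m3 m2']; group
      _ = x * x' * (p1 * p1') * (p2 * p2') * (p3 * p3') := by group
  inv_mem' := by
    rintro v ⟨hv, h⟩
    show v⁻¹ ∈ {v | v ∈ A ∧ _}
    rw [sqi H hv]
    exact ⟨hv, h⟩

theorem R_le (H : MExt A N π) (s y : N) : R H s y ≤ A := fun _ h => h.1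

/-- the elements acting trivially modulo `R` -/
def D (H : MExt A N π) (s y : N) : Subgroup N where
  carrier := {g | ∀ x ∈ A, x * (g * x⁻¹ * (g : G)⁻¹) ∈ R H s y}
  one_mem' := by
    intro x hx
    have : x * (((1 : N) : G) * x⁻¹ * ((1 : N) : G)⁻¹) = 1 := by simp
    rw [this]; exact one_mem _
  mul_mem' := by
    intro g h hg hh x hx
    have h1 := hh x hx
    have h2 := hg _ (A.inv_mem (R_le H s y h1))
    rw [inv_inv] at h2
    have h3 : x * (((g * h : N) : G) * x⁻¹ * ((g * h : N) : G)⁻¹) =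
        (x * (g * x⁻¹ * (g : G)⁻¹)) * (g * (x * (h * x⁻¹ * (h : G)⁻¹)) * (g : G)⁻¹) := by
      push_cast; group
    rw [h3]
    refine mul_mem (hg x hx) ?_
    have h4 : (g : G) * (x * (h * x⁻¹ * (h : G)⁻¹)) * (g : G)⁻¹ =
        (x * (h * x⁻¹ * (h : G)⁻¹)) * ((x * (h * x⁻¹ * (h : G)⁻¹))⁻¹ * ((g : G) * (x * (h * x⁻¹ * (h : G)⁻¹)) * (g : G)⁻¹)) := by
      rw [mul_inv_cancel_left]
    rw [h4]
    exact mul_mem h1 h2
  inv_mem' := by
    intro g hg x hx
    have hx' : (g : G)⁻¹ * x⁻¹ * g ∈ A := by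
      have := H.nconj g⁻¹ (A.inv_mem hx)
      push_cast at this
      rwa [inv_inv] at this
    have h1 := hg _ hx'
    have h2 : (g : G)⁻¹ * x⁻¹ * g * (g * ((g : G)⁻¹ * x⁻¹ * g)⁻¹ * (g : G)⁻¹) = ((g : G)⁻¹ * x⁻¹ * g) * x := by group
    rw [h2, H.comm hx' hx] at h1
    have h3 : x * (((g⁻¹ : N) : G) * x⁻¹ * ((g⁻¹ : N) : G)⁻¹) = x * ((g : G)⁻¹ * x⁻¹ * g) := by push_cast; group
    rw [h3]; exact h1

theorem y_mem (H : MExt A N π) (s y : N) : y ∈ D H s y := by
  intro x hx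
  refine ⟨A.mul_mem hx (H.nconj y (A.inv_mem hx)), x, hx, 1, A.one_mem, ?_⟩
  group

theorem s_mem (H : MExt A N π) (s y : N) : s ∈ D H s y := by
  have key : s⁻¹ ∈ D H s y := by
    intro t ht
    have ht' : (s : G)⁻¹ * t⁻¹ * s ∈ A := by
      have := H.nconj s⁻¹ (A.inv_mem ht)
      push_cast at this
      rwa [inv_inv] at this
    have hr : t * ((s : G)⁻¹ * t⁻¹ * s) ∈ A := A.mul_mem ht ht'
    have h0 : t * (((s⁻¹ : N) : G) * t⁻¹ * ((s⁻¹ : N) : G)⁻¹) = t * ((s : G)⁻¹ * t⁻¹ * s) := by push_cast; group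
    rw [h0]
    -- `y r y⁻¹ ∈ R`
    have h1 : (y : G) * (t * ((s : G)⁻¹ * t⁻¹ * s)) * (y : G)⁻¹ ∈ R H s y := by
      refine ⟨H.nconj y hr, 1, A.one_mem, t, ht, ?_⟩
      group
    have h2 := y_mem H s y _ (A.inv_mem hr)
    rw [inv_inv] at h2
    generalize t * ((s : G)⁻¹ * t⁻¹ * s) = r at *
    have h3 : r = ((y : G) * r * (y : G)⁻¹) * (r⁻¹ * ((y : G) * r * (y : G)⁻¹))⁻¹ := by group
    rw [h3]
    exact mul_mem h1 (inv_mem h2)
  have := (D H s y).inv_mem key
  rwa [inv_inv] at this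

theorem R_eq (H : MExt A N π) {s y w : N} (hw : w ∈ closure {s, y}) (h23 : orderOf (π w) = 23) {v : G} (hv : v ∈ A) :
    v ∈ R H s y := by
  have hwD : w ∈ D H s y := by
    refine (closure_le (D H s y)).2 ?_ hw
    rintro g (rfl | rfl)
    · exact s_mem H _ _
    · exact y_mem H _ _
  obtain ⟨x, hx, rfl⟩ := H.fill (s := w) (by rw [← h23, pow_orderOf_eq_one])
    (by intro h; rw [h, orderOf_one] at h23; omega) hv
  exact hwD x hx

/-- **the coset lemma** -/
theorem cover (H : MExt A N π) {s y w : N} (hw : w ∈ closure {s, y}) (h23 : orderOf (π w) = 23) {h : N}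
    (hh : π h = π s * π y * (π s)⁻¹ * (π y)⁻¹) :
    ∃ x ∈ A, ∃ t ∈ A, (h : G) = (s * x) * (y * t) * (s * x)⁻¹ * (y * t)⁻¹ := by
  have h1 : (h : G) * ((s * y * s⁻¹ * y⁻¹ : N) : G)⁻¹ ∈ A := by
    rw [← Subgroup.coe_inv, ← Subgroup.coe_mul, ← H.ker, map_mul, map_inv, hh]
    simp only [map_mul, map_inv]
    group
  have h2 : (s : G)⁻¹ * ((h : G) * ((s * y * s⁻¹ * y⁻¹ : N) : G)⁻¹) * s ∈ A := by
    have := H.nconj s⁻¹ h1
    push_cast at this ⊢
    rwa [inv_inv] at this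
  obtain ⟨-, x, hx, t, ht, e⟩ := R_eq H hw h23 h2
  refine ⟨x, hx, t, ht, ?_⟩
  have e1 : (h : G) = s * ((s : G)⁻¹ * ((h : G) * ((s * y * s⁻¹ * y⁻¹ : N) : G)⁻¹) * s) * (s : G)⁻¹ *
      ((s * y * s⁻¹ * y⁻¹ : N) : G) := by group
  rw [e1, e]
  push_cast
  have c := H.comm (A.inv_mem hx) ht
  calc (s : G) * (x * ((y : G) * x⁻¹ * (y : G)⁻¹) * ((y : G) * t * (y : G)⁻¹) *
        ((y : G) * (s : G)⁻¹ * t⁻¹ * s * (y : G)⁻¹)) * (s : G)⁻¹ * (s * y * (s : G)⁻¹ * (y : G)⁻¹)
      = s * x * y * (x⁻¹ * t) * (s : G)⁻¹ * t⁻¹ * (y : G)⁻¹ := by group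
    _ = s * x * y * (t * x⁻¹) * (s : G)⁻¹ * t⁻¹ * (y : G)⁻¹ := by rw [c]
    _ = _ := by group

end Cfsg.Agent.H265.TF.Coset
end

-- part: H64/QF/M24Cert
section
/-!
# Commutators `[s, y]` in `M24` with `s` of cycle type `3^8` and `⟨s, y⟩` containing elements of order 23 (helper64)

* `s0` : an element of cycle type `3^8`;
* `m24_cert` : every `u ≠ 1` in `M24` with `u ^ (3 * 2 ^ n) = 1` is conjugate to `s0 * y * s0⁻¹ * y⁻¹`, with an element
  of order 23 in `closure {s0, y}`;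
* `s0_cube`, `s0_move`, `three_conj` : the fixed-point-free elements of order 3 are conjugate to `s0`.
-/

set_option autoImplicit false
set_option Elab.async false

open Cfsg Subgroup

namespace Cfsg.Agent.H64.QF.M24Cert

open Cfsg.Agent.SporadicStructure.M24El Cfsg.Agent.SporadicA.GolayPerm Cfsg.Agent.Lib.F2Mat
open Cfsg.Agent.H334.Ore.Mat Cfsg.Agent.H854.Ore

/-- the packed element of type `3^8` -/
def S0 : ℕ := 917150455939460404939281612745760357

/-- data: `(y, t, c, w)` with `c r c⁻¹ = t = [s0, y]`, `w` a word of order 23 in `s0, y`; or `(q, k, 0, [])`: order `q k` -/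
def Dt : List (ℕ × ℕ × ℕ × List ℕ) := [(917054857337324220270612108137580880, 766133151260226158403974633051490737, 748406615136588081402036328490030314, [1, 1, 0, 0]),
  (425016834130010739789019880591448211, 568158591582469822601611657983142056, 375326798105817729403347050077272182, [0, 1, 1, 1]),
  (391352500158920249861375749502143959, 968592039557748322030855749160632615, 359067677755014693885070892841714770, [0, 0, 1, 1, 1, 1]),
  (963905038586230069218179974903713127, 175913154341302472677408138922012212, 97783656223962914312697001205179589, [0, 1]),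
  (444572926859963133357353949589558580, 688087882943029613961130883092073827, 3310397940704217911510834083178167, [0, 1, 1, 1]),
  (969000446787698455718084788301737475, 852134277240376612629019292198865107, 14579827772983734411405933621711558, [0, 1, 1, 0, 0, 1, 1]),
  (220003597214352896426886281772029286, 632712964307440707514673557935589091, 131999469720833544446585815792357399, [1, 0, 1, 0, 0, 1]),
  (5, 1, 0, []),
  (686993579691308816879645611638399588, 972363120351651314741701474618808970, 7316302001382420026009039579332999, [0, 1]),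
  (777686181535337859640294116137697967, 593463390742451005693048642891469398, 902545222214526794566522243652097139, [0, 1, 1, 0, 0, 1, 0]),
  (7, 1, 0, []),
  (7, 1, 0, []),
  (336953798069353990970748618668002534, 229324653184996678978261708285818086, 56524566598779641559368998449457734, [1, 0, 1, 1]),
  (5, 2, 0, []),
  (11, 1, 0, []),
  (361694361887746231499909812045557778, 680575264101998584333613954431168068, 678962023320061471833590108509180938, [0, 1, 0, 1, 1, 1]),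
  (52536645803519795313426585086537395, 93104464771381174205492188129305220, 141914226652815407364293351946472998, [1, 1]),
  (7, 2, 0, []),
  (7, 2, 0, []),
  (5, 3, 0, []),
  (5, 3, 0, []),
  (7, 3, 0, []),
  (7, 3, 0, []),
  (23, 1, 0, []),
  (23, 1, 0, [])]

/-- check for a representative of order `2^a`, `3 * 2^a` -/
def chkY (r : Rec) (d : ℕ × ℕ × ℕ × List ℕ) : Bool :=
  ok d.1 && (ok d.2.1 && (ok d.2.2.1 && (Nat.beq (pcomp d.2.2.1 r.c) (pcomp d.2.1 d.2.2.1) &&
    (Nat.beq (pcomp d.2.1 (pcomp d.1 S0)) (pcomp S0 d.1) &&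
      (Nat.beq (ppw (prodW [S0, d.1] d.2.2.2) 23) idP &&
        !(Nat.beq (papp (prodW [S0, d.1] d.2.2.2) 0) 0 && Nat.beq (papp (prodW [S0, d.1] d.2.2.2) 1) 1))))))

/-- check for a representative of another order -/
def chkN (r : Rec) (d : ℕ × ℕ × ℕ × List ℕ) : Bool :=
  (Nat.beq d.1 5 || (Nat.beq d.1 7 || (Nat.beq d.1 11 || Nat.beq d.1 23))) &&
    (Nat.beq (ppw r.c (Nat.mul d.1 d.2.1)) idP &&
      !((List.range 24).all fun i => Nat.beq (papp (ppw r.c d.2.1) i) i))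

/-- the check -/
def chk (r : Rec) (d : ℕ × ℕ × ℕ × List ℕ) : Bool := ok r.c && (chkY r d || chkN r d)

/-- the check of the list -/
def chkL : List Rec → List (ℕ × ℕ × ℕ × List ℕ) → Bool
  | [], [] => true
  | r :: D, w :: W => chk r w && chkL D W
  | _, _ => false

theorem exists_chk : ∀ {D : List Rec} {W : List (ℕ × ℕ × ℕ × List ℕ)}, chkL D W = true → ∀ r ∈ D, ∃ w, chk r w = true := by
  intro D
  induction D with
  | nil => intro W _ r hr; exact absurd hr List.not_mem_nil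
  | cons r D ih =>
    intro W h s hs
    cases W with
    | nil => exact Bool.noConfusion h
    | cons w W =>
      have h1 : chk r w = true ∧ chkL D W = true := by
        have h2 : (chk r w && chkL D W) = true := h
        rwa [Bool.and_eq_true] at h2
      rcases List.mem_cons.1 hs with rfl | hs
      · exact ⟨w, h1.1⟩
      · exact ih h1.2 s hs

private noncomputable def _root_.Cfsg.Agent.GolayF.f0 : {f // @Cfsg.Agent.H64.QF.M24Cert.chkL = f} :=
  ⟨_, by delta Cfsg.Agent.H64.QF.M24Cert.chk Cfsg.Agent.H64.QF.M24Cert.chkL Cfsg.Agent.H64.QF.M24Cert.chkL._f Cfsg.Agent.H64.QF.M24Cert.chkN Cfsg.Agent.H64.QF.M24Cert.chkY Cfsg.Agent.H854.Ore.ppw Cfsg.Agent.SporadicStructure.M24El.prodW Cfsg.Agent.SporadicStructure.M24El.prodW._f; rewrite [Cfsg.Agent.GolayF.papp_eq, Cfsg.Agent.GolayF.pcomp_eq, Cfsg.Agent.GolayF.ok_eq]; exact rfl⟩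

theorem hW : chkL Cfsg.Agent.H334.Ore.M24Data.D Dt = true := by (rewrite [Cfsg.Agent.GolayF.f0.2]; decide +kernel)

/-- an element of cycle type `3^8` -/
noncomputable def s0 : M24 := el S0

theorem ok_S0 : ok S0 = true := by (rewrite [Cfsg.Agent.GolayF.ok_eq]; decide +kernel)

private noncomputable def _root_.Cfsg.Agent.GolayF.f1 : {f // @Cfsg.Agent.H854.Ore.ppw = f} :=
  ⟨_, by delta Cfsg.Agent.H854.Ore.ppw; rewrite [Cfsg.Agent.GolayF.pcomp_eq]; exact rfl⟩

theorem s0_cube : s0 ^ 3 = 1 := by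
  have h : ppw S0 3 = idP := by (rewrite [Cfsg.Agent.GolayF.f1.2]; decide +kernel)
  have h2 := congrArg el h
  rwa [(el_ppw ok_S0 3).2, el_idP] at h2

theorem s0_move (p : GolayPt) : s0 • p ≠ p := by
  intro h
  have h1 := idx_el_smul ok_S0 p
  rw [show el S0 = s0 from rfl, h] at h1
  have h2 : ∀ i < 24, papp S0 i ≠ i := by (rewrite [Cfsg.Agent.GolayF.papp_eq]; decide +kernel)
  exact h2 _ (SporadicA.GolayBase.idx_lt p) h1.symm

/-- **the certificate** -/
theorem m24_cert {u : M24} {n : ℕ} (hu : u ^ (3 * 2 ^ n) = 1) (h1 : u ≠ 1) :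
    ∃ c y w : M24, c * u * c⁻¹ = s0 * y * s0⁻¹ * y⁻¹ ∧ w ∈ closure {s0, y} ∧ w ^ 23 = 1 ∧ w ≠ 1 := by
  rcases Cfsg.Agent.H334.Ore.M24R.cov u with rfl | ⟨r, hr, x, hx, hg⟩
  · exact absurd rfl h1
  obtain ⟨d, hd⟩ := exists_chk hW r hr
  unfold chk at hd
  rw [Bool.and_eq_true, Bool.or_eq_true] at hd
  obtain ⟨hrc, hd⟩ := hd
  obtain ⟨g, hg⟩ := isConj_iff.1 hg
  have hx' : x = el r.c := hx
  rw [hx'] at hg
  rcases hd with hd | hd
  · unfold chkY at hd
    rw [Bool.and_eq_true, Bool.and_eq_true, Bool.and_eq_true, Bool.and_eq_true, Bool.and_eq_true,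
      Bool.and_eq_true] at hd
    obtain ⟨hy, ht, hc, h2, h3, h4, h5⟩ := hd
    have hgl : ∀ P ∈ [S0, d.1], ok P = true := by
      intro P hP
      rcases List.mem_cons.1 hP with rfl | hP
      · exact ok_S0
      · rw [List.mem_singleton.1 hP]; exact hy
    have hw : ok (prodW [S0, d.1] d.2.2.2) = true := ok_prodW hgl _
    have e2 := congrArg el (Nat.eq_of_beq_eq_true h2)
    rw [el_pcomp hc hrc, el_pcomp ht hc] at e2
    have e3 := congrArg el (Nat.eq_of_beq_eq_true h3)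
    rw [el_pcomp ht (ok_pcomp hy ok_S0), el_pcomp hy ok_S0, el_pcomp ok_S0 hy] at e3
    have e4 := congrArg el (Nat.eq_of_beq_eq_true h4)
    rw [(el_ppw hw 23).2, el_idP] at e4
    have hm : ∃ i < 24, papp (prodW [S0, d.1] d.2.2.2) i ≠ i := by
      by_contra hcon
      push Not at hcon
      rw [hcon 0 (by norm_num), hcon 1 (by norm_num)] at h5
      exact absurd h5 (by decide)
    refine ⟨el d.2.2.1 * g⁻¹, el d.1, el (prodW [S0, d.1] d.2.2.2), ?_, ?_, e4, el_ne hw hm⟩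
    · have e5 : el d.2.2.1 * g⁻¹ * u * (el d.2.2.1 * g⁻¹)⁻¹ = el d.2.2.1 * el r.c * (el d.2.2.1)⁻¹ := by
        rw [← hg]; group
      rw [e5, e2, mul_inv_cancel_right]
      have e6 : s0 * el d.1 = el d.2.1 * (el d.1 * s0) := e3.symm
      rw [e6]; group
    · apply el_prodW_mem hgl
      intro i _
      rcases i with _ | _ | i
      · exact subset_closure (Or.inl rfl)
      · exact subset_closure (Or.inr rfl)
      · have : [S0, d.1].getD (i + 1 + 1) idP = idP := rfl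
        rw [this, el_idP]
        exact one_mem _
  · exfalso
    unfold chkN at hd
    rw [Bool.and_eq_true, Bool.and_eq_true] at hd
    obtain ⟨hq, h2, h3⟩ := hd
    have hq' : Nat.Coprime d.1 (3 * 2 ^ n) := by
      rw [Bool.or_eq_true, Bool.or_eq_true, Bool.or_eq_true] at hq
      rcases hq with h | h | h | h <;> rw [Nat.eq_of_beq_eq_true h] <;>
        exact Nat.Coprime.mul_right (by norm_num) (Nat.Coprime.pow_right n (by norm_num))
    have e2 := congrArg el (Nat.eq_of_beq_eq_true h2)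
    rw [(el_ppw hrc _).2, el_idP] at e2
    have e3 : (el r.c) ^ (3 * 2 ^ n) = 1 := by
      have : el r.c = g⁻¹ * u * g⁻¹⁻¹ := by rw [← hg]; group
      rw [this, conj_pow, hu]; group
    have e4 : (el r.c) ^ d.2.1 = 1 := by
      have h4 : orderOf (el r.c) ∣ d.1 * d.2.1 := orderOf_dvd_of_pow_eq_one e2
      have h5 : orderOf (el r.c) ∣ 3 * 2 ^ n := orderOf_dvd_of_pow_eq_one e3
      have h6 : Nat.Coprime (orderOf (el r.c)) d.1 := (hq'.coprime_dvd_right h5).symm
      exact orderOf_dvd_iff_pow_eq_one.1 (h6.dvd_of_dvd_mul_left h4)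
    have hm : ∃ i < 24, papp (ppw r.c d.2.1) i ≠ i := by
      by_contra hcon
      push Not at hcon
      rw [Bool.not_eq_true'] at h3
      have : (List.range 24).all (fun i => Nat.beq (papp (ppw r.c d.2.1) i) i) = true := by
        rw [List.all_eq_true]
        intro i hi
        rw [hcon i (List.mem_range.1 hi)]
        exact Nat.beq_refl i
      rw [this] at h3
      exact Bool.noConfusion h3
    apply el_ne (el_ppw hrc d.2.1).1 hm
    rw [(el_ppw hrc _).2, e4]

/-- check for the orders of the representatives -/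
def chkT (r : Rec) : Bool :=
  ok r.c && (!((List.range 24).all fun i => Nat.beq (papp (ppw r.c 3) i) i) ||
    (Nat.beq r.c S0 || (List.range 24).any fun i => Nat.beq (papp r.c i) i))

private noncomputable def _root_.Cfsg.Agent.GolayF.f2 : {f // @Cfsg.Agent.H64.QF.M24Cert.chkT = f} :=
  ⟨_, by delta Cfsg.Agent.H64.QF.M24Cert.chkT Cfsg.Agent.H854.Ore.ppw; rewrite [Cfsg.Agent.GolayF.papp_eq, Cfsg.Agent.GolayF.pcomp_eq, Cfsg.Agent.GolayF.ok_eq]; exact rfl⟩

theorem hT : Cfsg.Agent.H334.Ore.M24Data.D.all chkT = true := by (rewrite [Cfsg.Agent.GolayF.f2.2]; decide +kernel)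

/-- **the fixed-point-free elements of order 3 are conjugate to `s0`** -/
theorem three_conj {u : M24} (hu : u ^ 3 = 1) (hf : ∀ p : GolayPt, u • p ≠ p) : ∃ c : M24, c * u * c⁻¹ = s0 := by
  rcases Cfsg.Agent.H334.Ore.M24R.cov u with rfl | ⟨r, hr, x, hx, hg⟩
  · exact absurd (one_smul _ _) (hf (SporadicA.GolayBase.pt 0))
  have h := List.all_eq_true.1 hT r hr
  unfold chkT at h
  rw [Bool.and_eq_true, Bool.or_eq_true, Bool.or_eq_true] at h
  obtain ⟨hrc, h⟩ := h
  obtain ⟨g, hg⟩ := isConj_iff.1 hg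
  have hx' : x = el r.c := hx
  rw [hx'] at hg
  have e0 : el r.c = g⁻¹ * u * g⁻¹⁻¹ := by rw [← hg]; group
  rcases h with h | h | h
  · exfalso
    have e1 : (el r.c) ^ 3 = 1 := by rw [e0, conj_pow, hu]; group
    have hm : ∃ i < 24, papp (ppw r.c 3) i ≠ i := by
      by_contra hcon
      push Not at hcon
      rw [Bool.not_eq_true'] at h
      have : (List.range 24).all (fun i => Nat.beq (papp (ppw r.c 3) i) i) = true := by
        rw [List.all_eq_true]
        intro i hi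
        rw [hcon i (List.mem_range.1 hi)]
        exact Nat.beq_refl i
      rw [this] at h
      exact Bool.noConfusion h
    apply el_ne (el_ppw hrc 3).1 hm
    rw [(el_ppw hrc _).2, e1]
  · refine ⟨g⁻¹, ?_⟩
    have h2 := Nat.eq_of_beq_eq_true h
    have : g⁻¹ * u * g⁻¹⁻¹ = el S0 := by rw [← h2, ← e0]
    exact this
  · exfalso
    rw [List.any_eq_true] at h
    obtain ⟨i, hi, h⟩ := h
    have hi' := List.mem_range.1 hi
    have h2 := Nat.eq_of_beq_eq_true h
    have h3 : el r.c • SporadicA.GolayBase.pt i = SporadicA.GolayBase.pt i := by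
      rw [el_smul_pt hrc, SporadicA.GolayBase.idx_pt hi', h2]
    apply hf (g • SporadicA.GolayBase.pt i)
    have h4 : u * g = g * el r.c := by rw [← hg]; group
    rw [← mul_smul, h4, mul_smul, h3]

end Cfsg.Agent.H64.QF.M24Cert
end

-- part: H64/QF/M24CertB
section
/-!
# The certificate in `M24` with the fixed element `S8` (helper64)
-/

set_option autoImplicit false
set_option Elab.async false

open Cfsg Subgroup

namespace Cfsg.Agent.H64.QF.M24Cert

open Cfsg.Agent.SporadicStructure.M24El Cfsg.Agent.SporadicA.GolayPerm Cfsg.Agent.Lib.F2Mat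
open Cfsg.Agent.H854.Ore

/-- an element of cycle type `3^8` -/
noncomputable def S8 : M24 := el 48658384971103958334793714344528919

theorem ok_S8 : ok 48658384971103958334793714344528919 = true := by (rewrite [Cfsg.Agent.GolayF.ok_eq]; decide +kernel)

theorem S8_cube : S8 ^ 3 = 1 := by
  have h : ppw 48658384971103958334793714344528919 3 = idP := by (rewrite [Cfsg.Agent.GolayF.f1.2]; decide +kernel)
  have h2 := congrArg el h
  rwa [(el_ppw ok_S8 3).2, el_idP] at h2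

theorem S8_move (p : GolayPt) : S8 • p ≠ p := by
  intro h
  have h1 := idx_el_smul ok_S8 p
  rw [show el 48658384971103958334793714344528919 = S8 from rfl, h] at h1
  have h2 : ∀ i < 24, papp 48658384971103958334793714344528919 i ≠ i := by (rewrite [Cfsg.Agent.GolayF.papp_eq]; decide +kernel)
  exact h2 _ (SporadicA.GolayBase.idx_lt p) h1.symm

/-- fixed-point-free elements of order 3 are conjugate to `S8` -/
theorem three_conj8 {u : M24} (hu : u ^ 3 = 1) (hf : ∀ p : GolayPt, u • p ≠ p) : ∃ b : M24, b * u * b⁻¹ = S8 := by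
  obtain ⟨c, hc⟩ := three_conj S8_cube S8_move
  obtain ⟨d, hd⟩ := three_conj hu hf
  refine ⟨c⁻¹ * d, ?_⟩
  calc c⁻¹ * d * u * (c⁻¹ * d)⁻¹ = c⁻¹ * (d * u * d⁻¹) * c := by group
    _ = c⁻¹ * (c * S8 * c⁻¹) * c := by rw [hd, hc]
    _ = S8 := by group

/-- **the certificate, with `S8` itself** -/
theorem m24_cert8 {u : M24} {n : ℕ} (hu : u ^ (3 * 2 ^ n) = 1) (h1 : u ≠ 1) :
    ∃ g y w : M24, g * u * g⁻¹ = S8 * y * S8⁻¹ * y⁻¹ ∧ w ∈ closure {S8, y} ∧ orderOf w = 23 := by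
  obtain ⟨c, y, w, h2, h3, h4, h5⟩ := m24_cert hu h1
  obtain ⟨d, hd⟩ := three_conj8 s0_cube s0_move
  have : Fact (Nat.Prime 23) := ⟨by norm_num⟩
  refine ⟨d * c, d * y * d⁻¹, d * w * d⁻¹, ?_, ?_, ?_⟩
  · rw [← hd]
    calc d * c * u * (d * c)⁻¹ = d * (c * u * c⁻¹) * d⁻¹ := by group
      _ = d * (s0 * y * s0⁻¹ * y⁻¹) * d⁻¹ := by rw [h2]
      _ = _ := by group
  · have h6 : (closure {s0, y}).map (MulAut.conj d).toMonoidHom = closure {S8, d * y * d⁻¹} := by
      rw [MonoidHom.map_closure, Set.image_pair]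
      show closure {d * s0 * d⁻¹, d * y * d⁻¹} = _
      rw [hd]
    rw [← h6]
    exact ⟨w, h3, rfl⟩
  · apply orderOf_eq_prime
    · rw [conj_pow, h4]; group
    · intro h
      apply h5
      have : w = d⁻¹ * (d * w * d⁻¹) * d := by group
      rw [this, h]; group

end Cfsg.Agent.H64.QF.M24Cert
end

-- part: H265/TF/EData
section
/-!
# `3.Fi24'`: an element of class `3E` in `2^11 . M24` (helper265, for S2491, S2492)

`sE` (order 3, class `3E`) permutes the 24 base transpositions as the element `S8` of `M24`; `cE` commutes with `sE`,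
with the products over the orbits of `sE`, and their lifts do not commute.
-/

set_option autoImplicit false
set_option maxRecDepth 100000
set_option Elab.async false

namespace Cfsg.Agent.H265.TF

open Cfsg Subgroup Cfsg.Agent.H51.Mult Cfsg.Agent.H777.Ore
open Cfsg.Spor.Fi24 (Gen)
open Cfsg.Agent.H52.ThreeFi24 Cfsg.Agent.H52.ThreeFi24Chk Cfsg.Agent.R08.TThree
open Cfsg.Agent.Fischer.Fi24RepDef Cfsg.Agent.Fischer.Fi24Rep Cfsg.Agent.Lib.PermNet Cfsg.Agent.Lib.PermNetPt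
open Cfsg.Agent.Fischer.Fi24Spider (word_append word_cons word_nil gword)
open Cfsg.Agent.H827.CocoD (word_mem word_reverse d dword conj_d)
open Cfsg.Agent.LThreeFi24.FiveConj (eqB eq_of_eqB)
open Cfsg.Spor (Fi24)
open Cfsg.Agent.Schreier.FiBasic

def sw : List Gen := [.b,.c,.b,.a,.b,.c,.f,.g,.f,.e,.f,.g,.i,.h,.i,.d,.h,.e,.d,.c,.d,.e,.h,.d,.i,.h,.j,.g,.f,.g,.j,.e,.d,.h,.j,.g,.f,.e,
  .d,.c,.d,.e,.f,.g,.j,.h,.d,.e,.i,.h,.i,.d,.h,.e,.d,.c,.d,.e,.h,.d,.i,.h,.k,.l,.k,.b,.c,.d,.h,.e,.d,.c,.b,.l,.k,.a,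
  .k,.l,.b,.c,.d,.e,.h,.d,.c,.b,.a,.k]

def cw : List Gen := [.d,.h,.i,.e,.a,.b,.c,.d,.h,.e,.f,.c,.d,.e,.b,.c,.d,.h,.i,.e,.f,.d,.e,.b,.c,.d,.h,.g,.f,.e,.d,.c,.b,.a,.k,.i,.b,.c,
  .d,.h,.g,.e,.f,.d,.e,.c,.d,.h,.i,.f,.d,.e,.b,.c,.d,.h,.j,.g,.f,.e,.d,.c,.b,.a,.b,.c,.d,.h,.e,.f,.g,.j,.d,.e,.f,.g,
  .h,.i,.c,.d,.h,.e,.f,.c,.d,.e,.b,.c,.d,.h,.i,.h,.c,.d,.e,.b,.c,.d,.h,.b,.c,.d,.k,.a]

/-- half words of the base transpositions -/
def hu : ℕ → List Gen
  | 0 => []
  | 1 => []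
  | 2 => []
  | 3 => []
  | 4 => []
  | 5 => [.d,.h,.e,.d]
  | 6 => [.b,.c,.d,.h,.e,.d,.c,.b]
  | 7 => [.k,.a,.b,.c,.d,.h,.e,.d,.c,.b,.l,.k]
  | 8 => []
  | 9 => [.f,.e,.d,.h,.g,.f,.e,.d]
  | 10 => [.f,.e,.b,.c,.d,.h,.g,.f,.e,.d,.c,.b]
  | 11 => [.f,.e,.k,.a,.b,.c,.d,.h,.g,.f,.e,.d,.c,.b,.l,.k]
  | 12 => [.d,.e,.f,.c,.d,.e,.b,.c,.d,.h,.g,.f,.e,.d,.c,.b]
  | 13 => [.d,.h,.e,.f,.d,.e,.b,.c,.d,.h,.g,.f,.e,.d,.c,.b]
  | 14 => [.b,.c,.d,.h,.e,.f,.d,.e,.c,.d,.h,.g,.f,.e,.d,.c]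
  | 15 => [.i,.h,.d,.e,.c,.d,.h,.i,.f,.e,.b,.c,.d,.h,.g,.f,.e,.d,.c,.b]
  | 16 => [.i,.h,.d,.e,.c,.d,.h,.i,.f,.e,.k,.a,.b,.c,.d,.h,.g,.f,.e,.d,.c,.b,.l,.k]
  | 17 => [.i,.h,.d,.e,.c,.d,.h,.i,.d,.e,.f,.c,.d,.e,.b,.c,.d,.h,.g,.f,.e,.d,.c,.b]
  | 18 => [.i,.h,.d,.e,.c,.d,.h,.i,.d,.h,.e,.f,.d,.e,.b,.c,.d,.h,.g,.f,.e,.d,.c,.b]
  | 19 => [.i,.h,.b,.c,.d,.e,.a,.b,.c,.d,.h,.i,.f,.e,.k,.a,.b,.c,.d,.h,.g,.f,.e,.d,.c,.b,.l,.k]
  | 20 => [.i,.h,.b,.c,.d,.e,.a,.b,.c,.d,.h,.i,.d,.e,.f,.c,.d,.e,.b,.c,.d,.h,.g,.f,.e,.d,.c,.b]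
  | 21 => [.d,.h,.i,.c,.d,.h,.b,.c,.d,.e,.a,.b,.c,.d,.h,.i,.f,.e,.k,.a,.b,.c,.d,.h,.g,.f,.e,.d,.c,.b,.l,.k]
  | 22 => [.d,.h,.i,.e,.d,.h,.b,.c,.d,.e,.a,.b,.c,.d,.h,.i,.f,.e,.k,.a,.b,.c,.d,.h,.g,.f,.e,.d,.c,.b,.l,.k]
  | 23 => [.j,.g,.f,.e,.d,.h,.c,.d,.e,.b,.c,.d,.h,.f,.g,.e,.f,.d,.e,.c,.d,.h,.j,.g,.f,.e,.d,.c]
  | _ => []

/-- middle letters -/
def hx : ℕ → Gen
  | 0 => .l
  | 1 => .a
  | 2 => .c
  | 3 => .e
  | 4 => .h
  | 5 => .c
  | 6 => .a
  | 7 => .a
  | 8 => .g
  | 9 => .c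
  | 10 => .a
  | 11 => .a
  | 12 => .a
  | 13 => .a
  | 14 => .b
  | 15 => .a
  | 16 => .a
  | 17 => .a
  | 18 => .a
  | 19 => .a
  | 20 => .a
  | 21 => .a
  | 22 => .a
  | 23 => .b
  | _ => .l

def tw (n : ℕ) : List Gen := hu n ++ hx n :: (hu n).reverse

theorem dw0 : chkPt (nw (hu 0 ++ gword (hx 0)) false) 0 0 = true := by decide +kernel
theorem dw1 : chkPt (nw (hu 1 ++ gword (hx 1)) false) 0 1 = true := by decide +kernel
theorem dw2 : chkPt (nw (hu 2 ++ gword (hx 2)) false) 0 2 = true := by decide +kernel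
theorem dw3 : chkPt (nw (hu 3 ++ gword (hx 3)) false) 0 3 = true := by decide +kernel
theorem dw4 : chkPt (nw (hu 4 ++ gword (hx 4)) false) 0 4 = true := by decide +kernel
theorem dw5 : chkPt (nw (hu 5 ++ gword (hx 5)) false) 0 5 = true := by decide +kernel
theorem dw6 : chkPt (nw (hu 6 ++ gword (hx 6)) false) 0 6 = true := by decide +kernel
theorem dw7 : chkPt (nw (hu 7 ++ gword (hx 7)) false) 0 7 = true := by decide +kernel
theorem dw8 : chkPt (nw (hu 8 ++ gword (hx 8)) false) 0 8 = true := by decide +kernel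
theorem dw9 : chkPt (nw (hu 9 ++ gword (hx 9)) false) 0 9 = true := by decide +kernel
theorem dw10 : chkPt (nw (hu 10 ++ gword (hx 10)) false) 0 10 = true := by decide +kernel
theorem dw11 : chkPt (nw (hu 11 ++ gword (hx 11)) false) 0 11 = true := by decide +kernel
theorem dw12 : chkPt (nw (hu 12 ++ gword (hx 12)) false) 0 12 = true := by decide +kernel
theorem dw13 : chkPt (nw (hu 13 ++ gword (hx 13)) false) 0 13 = true := by decide +kernel
theorem dw14 : chkPt (nw (hu 14 ++ gword (hx 14)) false) 0 14 = true := by decide +kernel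
theorem dw15 : chkPt (nw (hu 15 ++ gword (hx 15)) false) 0 15 = true := by decide +kernel
theorem dw16 : chkPt (nw (hu 16 ++ gword (hx 16)) false) 0 16 = true := by decide +kernel
theorem dw17 : chkPt (nw (hu 17 ++ gword (hx 17)) false) 0 17 = true := by decide +kernel
theorem dw18 : chkPt (nw (hu 18 ++ gword (hx 18)) false) 0 18 = true := by decide +kernel
theorem dw19 : chkPt (nw (hu 19 ++ gword (hx 19)) false) 0 19 = true := by decide +kernel
theorem dw20 : chkPt (nw (hu 20 ++ gword (hx 20)) false) 0 20 = true := by decide +kernel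
theorem dw21 : chkPt (nw (hu 21 ++ gword (hx 21)) false) 0 21 = true := by decide +kernel
theorem dw22 : chkPt (nw (hu 22 ++ gword (hx 22)) false) 0 22 = true := by decide +kernel
theorem dw23 : chkPt (nw (hu 23 ++ gword (hx 23)) false) 0 23 = true := by decide +kernel

theorem dw_all : ∀ n < 24, chkPt (nw (hu n ++ gword (hx n)) false) 0 n = true := by
  intro n hn
  interval_cases n
  · exact dw0
  · exact dw1
  · exact dw2
  · exact dw3
  · exact dw4
  · exact dw5
  · exact dw6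
  · exact dw7
  · exact dw8
  · exact dw9
  · exact dw10
  · exact dw11
  · exact dw12
  · exact dw13
  · exact dw14
  · exact dw15
  · exact dw16
  · exact dw17
  · exact dw18
  · exact dw19
  · exact dw20
  · exact dw21
  · exact dw22
  · exact dw23

theorem lab_lt : ∀ p : GolayPt, lab p < 24 := by decide +kernel

theorem word_tw (p : GolayPt) : word (tw (lab p)) = d p := dword rfl (dw_all _ (lab_lt p))

/-- the action of `sE` on the base -/
def rowsE : List (ℕ × ℕ) := [(0, 2), (1, 0), (2, 1), (3, 4), (4, 8), (5, 10), (6, 9), (7, 11), (8, 3), (9, 23), (10, 21), (11, 22), (12, 15), (13, 20), (14, 13), (15, 19), (16, 18), (17, 16), (18, 17), (19, 12), (20, 14), (21, 5), (22, 7), (23, 6)]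

theorem chk_rows : chkP (nw sw false) rowsE = true := by decide +kernel

theorem chk_cube : eqB (sw ++ sw ++ sw) [] = true := by (rewrite [show @Cfsg.Agent.LThreeFi24.FiveConj.eqB = delta% @Cfsg.Agent.LThreeFi24.FiveConj.eqB from by delta Cfsg.Agent.LThreeFi24.FiveConj.eqB; rfl, show @Cfsg.Agent.LThreeFi24.FiveConj.eqL = delta% @Cfsg.Agent.LThreeFi24.FiveConj.eqL from by delta Cfsg.Agent.LThreeFi24.FiveConj.eqL; rfl, show @Cfsg.Agent.LThreeFi24.FiveConj.eqL._f = delta% @Cfsg.Agent.LThreeFi24.FiveConj.eqL._f from by delta Cfsg.Agent.LThreeFi24.FiveConj.eqL._f; rfl, Cfsg.Agent.Lib.PermNetFast.winv_fast]; decide +kernel)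
theorem chk_comm : eqB (cw ++ sw) (sw ++ cw) = true := by (rewrite [show @Cfsg.Agent.LThreeFi24.FiveConj.eqB = delta% @Cfsg.Agent.LThreeFi24.FiveConj.eqB from by delta Cfsg.Agent.LThreeFi24.FiveConj.eqB; rfl, show @Cfsg.Agent.LThreeFi24.FiveConj.eqL = delta% @Cfsg.Agent.LThreeFi24.FiveConj.eqL from by delta Cfsg.Agent.LThreeFi24.FiveConj.eqL; rfl, show @Cfsg.Agent.LThreeFi24.FiveConj.eqL._f = delta% @Cfsg.Agent.LThreeFi24.FiveConj.eqL._f from by delta Cfsg.Agent.LThreeFi24.FiveConj.eqL._f; rfl, Cfsg.Agent.Lib.PermNetFast.winv_fast]; decide +kernel)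
theorem chk_ne : Nat.beq (im (cw ++ sw ++ cw.reverse ++ sw.reverse)) 0 = false := by (rewrite [show @Cfsg.Agent.H52.ThreeFi24Chk.im = delta% @Cfsg.Agent.H52.ThreeFi24Chk.im from by delta Cfsg.Agent.H52.ThreeFi24Chk.im; rfl, Cfsg.Agent.Lib.PermNetFast.ptWord_fast]; decide +kernel)

/-- the word of the product over the orbits of `none` and of the point with label `n` -/
def ow (a b c : ℕ) : List Gen := tw a ++ tw b ++ tw c ++ (tw 0 ++ tw 2 ++ tw 1)

theorem chk_o0 : eqB (cw ++ ow 3 4 8) (ow 3 4 8 ++ cw) = true := by (rewrite [show @Cfsg.Agent.LThreeFi24.FiveConj.eqB = delta% @Cfsg.Agent.LThreeFi24.FiveConj.eqB from by delta Cfsg.Agent.LThreeFi24.FiveConj.eqB; rfl, show @Cfsg.Agent.LThreeFi24.FiveConj.eqL = delta% @Cfsg.Agent.LThreeFi24.FiveConj.eqL from by delta Cfsg.Agent.LThreeFi24.FiveConj.eqL; rfl, show @Cfsg.Agent.LThreeFi24.FiveConj.eqL._f = delta% @Cfsg.Agent.LThreeFi24.FiveConj.eqL._f from by delta Cfsg.Agent.LThreeFi24.FiveConj.eqL._f;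 rfl, Cfsg.Agent.Lib.PermNetFast.winv_fast]; decide +kernel)
theorem chk_o1 : eqB (cw ++ ow 5 10 21) (ow 5 10 21 ++ cw) = true := by (rewrite [show @Cfsg.Agent.LThreeFi24.FiveConj.eqB = delta% @Cfsg.Agent.LThreeFi24.FiveConj.eqB from by delta Cfsg.Agent.LThreeFi24.FiveConj.eqB; rfl, show @Cfsg.Agent.LThreeFi24.FiveConj.eqL = delta% @Cfsg.Agent.LThreeFi24.FiveConj.eqL from by delta Cfsg.Agent.LThreeFi24.FiveConj.eqL; rfl, show @Cfsg.Agent.LThreeFi24.FiveConj.eqL._f = delta% @Cfsg.Agent.LThreeFi24.FiveConj.eqL._f from by delta Cfsg.Agent.LThreeFi24.FiveConj.eqL._f; rfl, Cfsg.Agent.Lib.PermNetFast.winv_fast]; decide +kernel)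
theorem chk_o2 : eqB (cw ++ ow 6 9 23) (ow 6 9 23 ++ cw) = true := by (rewrite [show @Cfsg.Agent.LThreeFi24.FiveConj.eqB = delta% @Cfsg.Agent.LThreeFi24.FiveConj.eqB from by delta Cfsg.Agent.LThreeFi24.FiveConj.eqB; rfl, show @Cfsg.Agent.LThreeFi24.FiveConj.eqL = delta% @Cfsg.Agent.LThreeFi24.FiveConj.eqL from by delta Cfsg.Agent.LThreeFi24.FiveConj.eqL; rfl, show @Cfsg.Agent.LThreeFi24.FiveConj.eqL._f = delta% @Cfsg.Agent.LThreeFi24.FiveConj.eqL._f from by delta Cfsg.Agent.LThreeFi24.FiveConj.eqL._f; rfl, Cfsg.Agent.Lib.PermNetFast.winv_fast]; decide +kernel)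
theorem chk_o3 : eqB (cw ++ ow 7 11 22) (ow 7 11 22 ++ cw) = true := by (rewrite [show @Cfsg.Agent.LThreeFi24.FiveConj.eqB = delta% @Cfsg.Agent.LThreeFi24.FiveConj.eqB from by delta Cfsg.Agent.LThreeFi24.FiveConj.eqB; rfl, show @Cfsg.Agent.LThreeFi24.FiveConj.eqL = delta% @Cfsg.Agent.LThreeFi24.FiveConj.eqL from by delta Cfsg.Agent.LThreeFi24.FiveConj.eqL; rfl, show @Cfsg.Agent.LThreeFi24.FiveConj.eqL._f = delta% @Cfsg.Agent.LThreeFi24.FiveConj.eqL._f from by delta Cfsg.Agent.LThreeFi24.FiveConj.eqL._f; rfl, Cfsg.Agent.Lib.PermNetFast.winv_fast]; decide +kernel)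
theorem chk_o4 : eqB (cw ++ ow 12 15 19) (ow 12 15 19 ++ cw) = true := by (rewrite [show @Cfsg.Agent.LThreeFi24.FiveConj.eqB = delta% @Cfsg.Agent.LThreeFi24.FiveConj.eqB from by delta Cfsg.Agent.LThreeFi24.FiveConj.eqB; rfl, show @Cfsg.Agent.LThreeFi24.FiveConj.eqL = delta% @Cfsg.Agent.LThreeFi24.FiveConj.eqL from by delta Cfsg.Agent.LThreeFi24.FiveConj.eqL; rfl, show @Cfsg.Agent.LThreeFi24.FiveConj.eqL._f = delta% @Cfsg.Agent.LThreeFi24.FiveConj.eqL._f from by delta Cfsg.Agent.LThreeFi24.FiveConj.eqL._f; rfl, Cfsg.Agent.Lib.PermNetFast.winv_fast]; decide +kernel)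
theorem chk_o5 : eqB (cw ++ ow 13 20 14) (ow 13 20 14 ++ cw) = true := by (rewrite [show @Cfsg.Agent.LThreeFi24.FiveConj.eqB = delta% @Cfsg.Agent.LThreeFi24.FiveConj.eqB from by delta Cfsg.Agent.LThreeFi24.FiveConj.eqB; rfl, show @Cfsg.Agent.LThreeFi24.FiveConj.eqL = delta% @Cfsg.Agent.LThreeFi24.FiveConj.eqL from by delta Cfsg.Agent.LThreeFi24.FiveConj.eqL; rfl, show @Cfsg.Agent.LThreeFi24.FiveConj.eqL._f = delta% @Cfsg.Agent.LThreeFi24.FiveConj.eqL._f from by delta Cfsg.Agent.LThreeFi24.FiveConj.eqL._f; rfl, Cfsg.Agent.Lib.PermNetFast.winv_fast]; decide +kernel)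
theorem chk_o6 : eqB (cw ++ ow 16 18 17) (ow 16 18 17 ++ cw) = true := by (rewrite [show @Cfsg.Agent.LThreeFi24.FiveConj.eqB = delta% @Cfsg.Agent.LThreeFi24.FiveConj.eqB from by delta Cfsg.Agent.LThreeFi24.FiveConj.eqB; rfl, show @Cfsg.Agent.LThreeFi24.FiveConj.eqL = delta% @Cfsg.Agent.LThreeFi24.FiveConj.eqL from by delta Cfsg.Agent.LThreeFi24.FiveConj.eqL; rfl, show @Cfsg.Agent.LThreeFi24.FiveConj.eqL._f = delta% @Cfsg.Agent.LThreeFi24.FiveConj.eqL._f from by delta Cfsg.Agent.LThreeFi24.FiveConj.eqL._f; rfl, Cfsg.Agent.Lib.PermNetFast.winv_fast]; decide +kernel)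

end Cfsg.Agent.H265.TF
end

-- part: H265/TF/TwoP
section
/-!
# `3.Fi24'`: all lifts of the elements of `2^11 . M24` of order `2 ^ n` or `3 * 2 ^ n` (helper265, for S2491, S2492)

* `tri_sv` : the lifts of `sE * v`, `v ∈ AA`, are fused;
* `good_N` : `h ∈ N(AA)` with `(ind h) ^ (3 * 2 ^ n) = 1`: all lifts are commutators;
* `two` : **(R2)** all 2-elements of `Fi24'`; `good_into` : **(R2b)** modulo the containment in `N(AA)`.
-/

set_option autoImplicit false
set_option maxRecDepth 100000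
set_option Elab.async false

namespace Cfsg.Agent.H265.TF

open Cfsg Subgroup Cfsg.Agent.H51.Mult Cfsg.Agent.H777.Ore
open Cfsg.Spor.Fi24 (Gen)
open Cfsg.Agent.H52.ThreeFi24 Cfsg.Agent.H52.ThreeFi24Chk Cfsg.Agent.R08.TThree
open Cfsg.Agent.Fischer.Fi24RepDef Cfsg.Agent.Fischer.Fi24Rep Cfsg.Agent.Lib.PermNet Cfsg.Agent.Lib.PermNetPt
open Cfsg.Agent.Fischer.Fi24Spider (word_append word_cons word_nil gword)
open Cfsg.Agent.H827.CocoD (word_mem word_reverse d dword conj_d e)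
open Cfsg.Agent.H827.Coco
open Cfsg.Agent.LThreeFi24.FiveConj (eqB eq_of_eqB)
open Cfsg.Spor (Fi24)
open Cfsg.Agent.Schreier.FiBasic
open Cfsg.Agent.SporadicStructure.M24El Cfsg.Agent.SporadicA.GolayBase Cfsg.Agent.SporadicA.GolayPerm
open Cfsg.Agent.H64.QF.M24Cert (S8 ok_S8 S8_cube m24_cert8)
open Cfsg.Agent.H854.Ore (MExt)

noncomputable def sE : Spor.Fi24' := wK sw rfl
noncomputable def cE : Spor.Fi24' := wK cw rfl

theorem tri_E : Tri π3 cE sE := tri_of_chk rfl rfl chk_comm chk_ne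

theorem cube_sE : sE ^ 3 = 1 := cube_wK rfl chk_cube

/-- labels -/
def permL (n : ℕ) : ℕ := ([2, 0, 1, 4, 8, 10, 9, 11, 3, 23, 21, 22, 15, 20, 13, 19, 18, 16, 17, 12, 14, 5, 7, 6] : List ℕ).getD n 0

theorem lab_S8 (p : GolayPt) : lab ((S8 : Equiv.Perm GolayPt) p) = permL (lab p) := by
  have h1 : (S8 : Equiv.Perm GolayPt) p = pt (papp 48658384971103958334793714344528919 (idx p)) := el_smul_pt ok_S8 p
  rw [h1]
  clear h1
  revert p
  (rewrite [Cfsg.Agent.GolayF.papp_eq]; decide +kernel)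

theorem row_mem : ∀ n < 24, (n, permL n) ∈ rowsE := by decide

theorem rho_sw (p : GolayPt) : rho (word sw) (lab p) = lab ((S8 : Equiv.Perm GolayPt) p) := by
  rw [lab_S8]
  have h := rho_of_chkP chk_rows (lab p, permL (lab p)) (row_mem _ (lab_lt p))
  exact h

theorem conj_sw (p : GolayPt) : (sE : Fi24) * d p * (sE : Fi24)⁻¹ = d ((S8 : Equiv.Perm GolayPt) p) :=
  conj_d (rho_sw p)

theorem sE_mem : sE ∈ normalizer (AA : Set Spor.Fi24') := mem_normalizer_of conj_sw

noncomputable def sN : ↥(normalizer (AA : Set Spor.Fi24')) := ⟨sE, sE_mem⟩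

theorem ind_sN : ind sN = S8 := Subtype.ext (ind_eq conj_sw)

theorem ext : MExt AA (normalizer (AA : Set Spor.Fi24')) ind := H854.Ore.Fi24.ext

theorem commAA {a b : Spor.Fi24'} (ha : a ∈ AA) (hb : b ∈ AA) : a * b = b * a := ext.comm ha hb

/-! ### the norm -/

/-- the norm -/
noncomputable def Nm (v : Spor.Fi24') : Spor.Fi24' := v * (sE * v * sE⁻¹) * (sE⁻¹ * v * sE)

theorem cj1 {v : Spor.Fi24'} (hv : v ∈ AA) : sE * v * sE⁻¹ ∈ AA := ext.nconj sN hv

theorem cj2 {v : Spor.Fi24'} (hv : v ∈ AA) : sE⁻¹ * v * sE ∈ AA := by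
  have h := ext.nconj sN⁻¹ hv
  have e1 : ((sN⁻¹ : ↥(normalizer (AA : Set Spor.Fi24'))) : Spor.Fi24') = sE⁻¹ := rfl
  rw [e1, inv_inv] at h
  exact h

theorem Nm_mem {v : Spor.Fi24'} (hv : v ∈ AA) : Nm v ∈ AA := mul_mem (mul_mem hv (cj1 hv)) (cj2 hv)

theorem Nm_mul {v w : Spor.Fi24'} (hv : v ∈ AA) (hw : w ∈ AA) : Nm (v * w) = Nm v * Nm w := by
  have c1 := commAA (cj1 hv) hw
  have c2 := commAA (cj2 hv) hw
  have c3 := commAA (cj2 hv) (cj1 hw)
  unfold Nm
  calc v * w * (sE * (v * w) * sE⁻¹) * (sE⁻¹ * (v * w) * sE)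
      = v * (w * (sE * v * sE⁻¹)) * (sE * w * sE⁻¹) * ((sE⁻¹ * v * sE) * (sE⁻¹ * w * sE)) := by group
    _ = v * (sE * v * sE⁻¹) * w * ((sE * w * sE⁻¹) * (sE⁻¹ * v * sE)) * (sE⁻¹ * w * sE) := by rw [← c1]; group
    _ = v * (sE * v * sE⁻¹) * (w * (sE⁻¹ * v * sE)) * (sE * w * sE⁻¹) * (sE⁻¹ * w * sE) := by rw [← c3]; group
    _ = v * (sE * v * sE⁻¹) * (sE⁻¹ * v * sE) * (w * (sE * w * sE⁻¹) * (sE⁻¹ * w * sE)) := by rw [← c2]; group

theorem Nm_one : Nm 1 = 1 := by unfold Nm; group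

theorem permL_cube : ∀ n < 24, permL (permL (permL n)) = n := by decide

theorem lab_S8i (p : GolayPt) : lab ((S8 : Equiv.Perm GolayPt)⁻¹ p) = permL (permL (lab p)) := by
  have h3 : (S8 : Equiv.Perm GolayPt) ^ 3 = 1 := congrArg Subtype.val S8_cube
  have h4 : (S8 : Equiv.Perm GolayPt)⁻¹ = (S8 : Equiv.Perm GolayPt) * (S8 : Equiv.Perm GolayPt) := by
    rw [pow_succ, pow_two] at h3
    exact inv_eq_of_mul_eq_one_left h3
  rw [h4, Equiv.Perm.mul_apply, lab_S8, lab_S8]

theorem conj_swi (p : GolayPt) : (sE : Fi24)⁻¹ * d p * (sE : Fi24) = d ((S8 : Equiv.Perm GolayPt)⁻¹ p) := by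
  have h := conj_sw ((S8 : Equiv.Perm GolayPt)⁻¹ p)
  rw [show (S8 : Equiv.Perm GolayPt) ((S8 : Equiv.Perm GolayPt)⁻¹ p) = p from
    (S8 : Equiv.Perm GolayPt).apply_symm_apply p] at h
  rw [← h]; group

/-- the product over the orbit of a label -/
noncomputable def F (n : ℕ) : Fi24 := word (tw n) * word (tw (permL n)) * word (tw (permL (permL n)))

theorem exists_lab : ∀ n < 24, ∃ p, lab p = n := by decide +kernel

theorem comm_tw {a b : ℕ} (ha : a < 24) (hb : b < 24) : word (tw a) * word (tw b) = word (tw b) * word (tw a) := by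
  obtain ⟨p, rfl⟩ := exists_lab a ha
  obtain ⟨q, rfl⟩ := exists_lab b hb
  rw [word_tw, word_tw]
  exact H827.CocoD.d_comm p q

theorem permL_lt : ∀ n < 24, permL n < 24 := by decide

theorem F_permL {n : ℕ} (hn : n < 24) : F (permL n) = F n := by
  unfold F
  rw [permL_cube n hn]
  have c1 := comm_tw (permL_lt n hn) hn
  have c2 := comm_tw (permL_lt _ (permL_lt n hn)) hn
  calc word (tw (permL n)) * word (tw (permL (permL n))) * word (tw n)
      = word (tw (permL n)) * (word (tw (permL (permL n))) * word (tw n)) := by group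
    _ = (word (tw (permL n)) * word (tw n)) * word (tw (permL (permL n))) := by rw [c2]; group
    _ = _ := by rw [c1]

theorem Nm_e (p : GolayPt) : ((Nm (e p) : Spor.Fi24') : Fi24) = F (lab p) * F 0 := by
  have h1 : ((Nm (e p) : Spor.Fi24') : Fi24) = d p * d none * ((sE : Fi24) * (d p * d none) * (sE : Fi24)⁻¹) *
      ((sE : Fi24)⁻¹ * (d p * d none) * sE) := rfl
  have h2 : (sE : Fi24) * (d p * d none) * (sE : Fi24)⁻¹ = d ((S8 : Equiv.Perm GolayPt) p) * d ((S8 : Equiv.Perm GolayPt) none) := by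
    rw [← conj_sw, ← conj_sw]; group
  have h3 : (sE : Fi24)⁻¹ * (d p * d none) * (sE : Fi24) = d ((S8 : Equiv.Perm GolayPt)⁻¹ p) * d ((S8 : Equiv.Perm GolayPt)⁻¹ none) := by
    rw [← conj_swi, ← conj_swi]; group
  have hF : ∀ q : GolayPt, F (lab q) = d q * d ((S8 : Equiv.Perm GolayPt) q) * d ((S8 : Equiv.Perm GolayPt)⁻¹ q) := by
    intro q
    rw [← word_tw q, ← word_tw ((S8 : Equiv.Perm GolayPt) q), ← word_tw ((S8 : Equiv.Perm GolayPt)⁻¹ q), lab_S8, lab_S8i]
    rfl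
  rw [h1, h2, h3, ← lab_none, hF p, hF none]
  have c := fun q r => H827.CocoD.d_comm q r
  generalize (S8 : Equiv.Perm GolayPt) p = p1
  generalize (S8 : Equiv.Perm GolayPt)⁻¹ p = p2
  generalize (S8 : Equiv.Perm GolayPt) none = n1
  generalize (S8 : Equiv.Perm GolayPt)⁻¹ none = n2
  calc d p * d none * (d p1 * d n1) * (d p2 * d n2) = d p * (d none * d p1) * (d n1 * d p2) * d n2 := by group
    _ = d p * d p1 * (d none * d p2) * d n1 * d n2 := by rw [c none p1, c n1 p2]; group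
    _ = _ := by rw [c none p2]; group

theorem comm_zero : word cw * (F 0 * F 0) = F 0 * F 0 * word cw := by
  have h : F 0 * F 0 = 1 := by
    have hn : (0 : ℕ) < 24 := by norm_num
    have h1 := permL_lt 0 hn
    have h2 := permL_lt _ h1
    have sq : ∀ n < 24, word (tw n) * word (tw n) = 1 := by
      intro n hn
      obtain ⟨p, rfl⟩ := exists_lab n hn
      rw [word_tw]
      exact H827.CocoD.d_sq p
    unfold F
    generalize hA : word (tw 0) = A0
    generalize hB : word (tw (permL 0)) = B0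
    generalize hC : word (tw (permL (permL 0))) = C0
    have c1 : A0 * B0 = B0 * A0 := by rw [← hA, ← hB]; exact comm_tw hn h1
    have c2 : A0 * C0 = C0 * A0 := by rw [← hA, ← hC]; exact comm_tw hn h2
    have c3 : B0 * C0 = C0 * B0 := by rw [← hB, ← hC]; exact comm_tw h1 h2
    have s1 : A0 * A0 = 1 := by rw [← hA]; exact sq _ hn
    have s2 : B0 * B0 = 1 := by rw [← hB]; exact sq _ h1
    have s3 : C0 * C0 = 1 := by rw [← hC]; exact sq _ h2
    calc A0 * B0 * C0 * (A0 * B0 * C0) = A0 * B0 * (C0 * A0) * B0 * C0 := by group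
      _ = A0 * (B0 * A0) * (C0 * B0) * C0 := by rw [← c2]; group
      _ = (A0 * A0) * (B0 * B0) * (C0 * C0) := by rw [← c1, ← c3]; group
      _ = 1 := by rw [s1, s2, s3]; group
  rw [h, mul_one, one_mul]

theorem F_ow (a : ℕ) : F a * F 0 = word (ow a (permL a) (permL (permL a))) := by
  unfold F ow
  rw [word_append, word_append, word_append, word_append, word_append]
  rfl

theorem comm_F : ∀ n < 24, word cw * (F n * F 0) = F n * F 0 * word cw := by
  have key : ∀ a < 24, word cw * (F a * F 0) = F a * F 0 * word cw →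
      word cw * (F (permL a) * F 0) = F (permL a) * F 0 * word cw := by
    intro a ha h
    rw [F_permL ha]; exact h
  have ofchk : ∀ a, eqB (cw ++ ow a (permL a) (permL (permL a))) (ow a (permL a) (permL (permL a)) ++ cw) = true →
      word cw * (F a * F 0) = F a * F 0 * word cw := by
    intro a h
    have h1 := eq_of_eqB h
    rw [word_append, word_append] at h1
    rw [F_ow]; exact h1
  have k0 : word cw * (F 0 * F 0) = F 0 * F 0 * word cw := comm_zero
  have k2 := key 0 (by norm_num) k0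
  have k1 := key 2 (by norm_num) k2
  have k3 := ofchk 3 chk_o0
  have k4 := key 3 (by norm_num) k3
  have k8 := key 4 (by norm_num) k4
  have k5 := ofchk 5 chk_o1
  have k10 := key 5 (by norm_num) k5
  have k21 := key 10 (by norm_num) k10
  have k6 := ofchk 6 chk_o2
  have k9 := key 6 (by norm_num) k6
  have k23 := key 9 (by norm_num) k9
  have k7 := ofchk 7 chk_o3
  have k11 := key 7 (by norm_num) k7
  have k22 := key 11 (by norm_num) k11
  have k12 := ofchk 12 chk_o4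
  have k15 := key 12 (by norm_num) k12
  have k19 := key 15 (by norm_num) k15
  have k13 := ofchk 13 chk_o5
  have k20 := key 13 (by norm_num) k13
  have k14 := key 20 (by norm_num) k20
  have k16 := ofchk 16 chk_o6
  have k18 := key 16 (by norm_num) k16
  have k17 := key 18 (by norm_num) k18
  intro n hn
  interval_cases n
  · exact k0
  · exact k1
  · exact k2
  · exact k3
  · exact k4
  · exact k5
  · exact k6
  · exact k7
  · exact k8
  · exact k9
  · exact k10
  · exact k11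
  · exact k12
  · exact k13
  · exact k14
  · exact k15
  · exact k16
  · exact k17
  · exact k18
  · exact k19
  · exact k20
  · exact k21
  · exact k22
  · exact k23

/-- `cE` commutes with the norms -/
theorem comm_Nm {v : Spor.Fi24'} (hv : v ∈ AA) : Commute cE (Nm v) := by
  have hv' : v ∈ closure (Set.range e) := hv
  induction hv' using closure_induction with
  | mem x hx =>
    obtain ⟨p, rfl⟩ := hx
    apply Subtype.ext
    show word cw * ((Nm (e p) : Spor.Fi24') : Fi24) = ((Nm (e p) : Spor.Fi24') : Fi24) * word cw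
    rw [Nm_e]
    exact comm_F _ (lab_lt p)
  | one => rw [Nm_one]; exact Commute.one_right _
  | mul x y hx hy ihx ihy =>
    have hx' : x ∈ AA := hx
    have hy' : y ∈ AA := hy
    rw [Nm_mul hx' hy']
    exact (ihx hx').mul_right (ihy hy')
  | inv x hx ih =>
    have hx' : x ∈ AA := hx
    have h1 : x⁻¹ = x := inv_eq_of_mul_eq_one_left (ext.sq x hx')
    rw [h1]; exact ih hx'

/-- **the lifts of `sE * v` are fused** -/
theorem tri_sv {v : Spor.Fi24'} (hv : v ∈ AA) : ∃ c, Tri π3 c (sE * v) := by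
  have h1 : (Nm v) ^ 2 = 1 := by rw [pow_two]; exact ext.sq _ (Nm_mem hv)
  have h2 := tri_E.mul_right hs3 hc3 card_ker_L3 (comm_Nm hv) h1 (by norm_num)
  -- conjugate by `a⁻¹`, `a = s⁻¹ v s`
  set a := sE⁻¹ * v * sE with ha
  have haA : a ∈ AA := cj2 hv
  refine ⟨a⁻¹ * cE * a, ?_⟩
  have h3 := h2.conj hs3 a⁻¹
  rw [inv_inv] at h3
  have h4 : a⁻¹ * (sE * Nm v) * a = sE * v := by
    have i1 : a⁻¹ = a := inv_eq_of_mul_eq_one_left (ext.sq a haA)
    have e0 : sE * v = (sE * v * sE⁻¹) * sE := by group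
    have e1 : sE * (sE * v * sE⁻¹) = a * sE := by
      have h7 : sE * sE * sE = 1 := by rw [← pow_two, ← pow_succ]; exact cube_sE
      rw [ha]
      calc sE * (sE * v * sE⁻¹) = sE⁻¹ * (sE * sE * sE) * v * (sE * sE * sE)⁻¹ * sE * sE := by group
        _ = sE⁻¹ * v * sE * sE := by rw [h7]; group
    have e2 : sE * a = v * sE := by rw [ha]; group
    have c1 := commAA haA (cj1 hv)
    have h8 : sE * Nm v = a * (sE * v) * a⁻¹ := by
      rw [i1]
      unfold Nm
      rw [← ha]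
      calc sE * (v * (sE * v * sE⁻¹) * a) = (sE * v) * (sE * v * sE⁻¹) * a := by group
        _ = (sE * v * sE⁻¹) * (sE * (sE * v * sE⁻¹)) * a := by rw [e0]; group
        _ = ((sE * v * sE⁻¹) * a) * sE * a := by rw [e1]; group
        _ = a * ((sE * v * sE⁻¹) * sE) * a := by rw [← c1]; group
        _ = _ := by rw [← e0]
    rw [h8]; group
  rwa [h4] at h3

end Cfsg.Agent.H265.TF
end

-- part: H265/TF/Two
section
/-!
# `3.Fi24'`: all lifts of the 2-elements, and of the elements of order `3 * 2 ^ n` of `2^11 . M24` (helper265, for S2491, S2492)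

* `good_N` : `h ∈ N(AA)`, `(ind h) ^ (3 * 2 ^ n) = 1`, `ind h ≠ 1`: all lifts are commutators;
* `good_A` : the elements of `AA = 2^11`;
* `two` : **(R2)**; `good_into` : **(R2b)** modulo the containment in `N(AA)`.
-/

set_option autoImplicit false
set_option maxRecDepth 100000
set_option Elab.async false

namespace Cfsg.Agent.H265.TF

open Cfsg Subgroup Cfsg.Agent.H51.Mult Cfsg.Agent.H777.Ore
open Cfsg.Spor.Fi24 (Gen)
open Cfsg.Agent.H52.ThreeFi24 Cfsg.Agent.H52.ThreeFi24Chk Cfsg.Agent.R08.TThree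
open Cfsg.Agent.Fischer.Fi24RepDef Cfsg.Agent.Fischer.Fi24Rep Cfsg.Agent.Lib.PermNetPt
open Cfsg.Agent.Lib.PermNet hiding tau
open Cfsg.Agent.Fischer.Fi24Spider (word_append word_cons word_nil gword)
open Cfsg.Agent.H827.CocoD (word_mem word_reverse d dword conj_d e)
open Cfsg.Agent.H827.Coco
open Cfsg.Agent.LThreeFi24.FiveConj (eqB eq_of_eqB)
open Cfsg.Spor (Fi24)
open Cfsg.Agent.Schreier.FiBasic
open Cfsg.Agent.SporadicStructure.M24El Cfsg.Agent.SporadicA.GolayBase Cfsg.Agent.SporadicA.GolayPerm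
open Cfsg.Agent.H64.QF.M24Cert (S8 ok_S8 S8_cube m24_cert8)
open Cfsg.Agent.H854.Ore (MExt)

/-- **the elements of `N(AA)` outside `AA`** -/
theorem good_N {h : ↥(normalizer (AA : Set Spor.Fi24'))} {n : ℕ} (hu : (ind h) ^ (3 * 2 ^ n) = 1) (h1 : ind h ≠ 1) :
    Good π3 (h : Spor.Fi24') := by
  obtain ⟨g, y, w, e1, hw, h23⟩ := m24_cert8 hu h1
  obtain ⟨g, rfl⟩ := ind_surj g
  obtain ⟨Y, rfl⟩ := ind_surj y
  have h6 : (closure {sN, Y}).map ind = closure {S8, ind Y} := by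
    rw [MonoidHom.map_closure, Set.image_pair, ind_sN]
  rw [← h6] at hw
  obtain ⟨W, hW, rfl⟩ := hw
  obtain ⟨x, hx, t, ht, e2⟩ := Coset.cover ext hW h23 (h := g * h * g⁻¹) (by
    rw [map_mul, map_mul, map_inv, e1, ind_sN])
  obtain ⟨c, hc⟩ := tri_sv hx
  have h3 := good_comm hs3 hc3 card_ker_L3 hc ((Y : Spor.Fi24') * t)
  refine Good.of_conj hs3 (g : Spor.Fi24') ?_
  have e3 : (g : Spor.Fi24') * h * (g : Spor.Fi24')⁻¹ = (sE * x) * (Y * t) * (sE * x)⁻¹ * (Y * t)⁻¹ := e2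
  rw [e3]; exact h3

/-! ### the elements of `AA` -/

theorem tau0_sq : tau 0 * tau 0 = 1 := by apply Equiv.ext; decide +kernel
theorem tau0_ne : tau 0 none ≠ none := by decide +kernel

theorem good_tau {w : List Gen} (hw : w.length % 2 = 0) (chk : chkP (nw w false) (rows 0) = true) : Good π3 (wK w hw) := by
  have hr : ∀ p, rho (word w) (lab p) = lab (tau 0 p) := fun p => by
    have h := rho_of_chkP chk (lab p, lab (tau 0 p)) (mem_rows 0 (by norm_num) p)
    exact h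
  have hc : ∀ p, ((wK w hw : Spor.Fi24') : Fi24) * d p * ((wK w hw : Spor.Fi24') : Fi24)⁻¹ = d (tau 0 p) := fun p => conj_d (hr p)
  have hi : (ind ⟨wK w hw, mem_normalizer_of hc⟩).1 = tau 0 := ind_eq (n := ⟨wK w hw, mem_normalizer_of hc⟩) hc
  refine good_N (h := ⟨wK w hw, mem_normalizer_of hc⟩) (n := 1) ?_ ?_
  · have h2 : ind ⟨wK w hw, mem_normalizer_of hc⟩ * ind ⟨wK w hw, mem_normalizer_of hc⟩ = 1 := Subtype.ext (by
      show (ind ⟨wK w hw, mem_normalizer_of hc⟩).1 * (ind ⟨wK w hw, mem_normalizer_of hc⟩).1 = 1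
      rw [hi, tau0_sq])
    rw [show 3 * 2 ^ 1 = 2 * 3 by norm_num, pow_mul, pow_two, h2, one_pow]
  · intro h3
    rw [h3] at hi
    exact tau0_ne (by rw [← hi]; rfl)

theorem chkA : eqB (([.a,.k,.a] : List Gen) ++ W 0 ++ ([.a,.k,.a] : List Gen)) [.l,.a] = true := by decide +kernel
theorem chkB : eqB (([.a,.k,.a] : List Gen) ++ (W 0 ++ ([.e,.g] : List Gen)) ++ ([.a,.k,.a] : List Gen)) [.l,.a,.e,.g] = true := by decide +kernel
theorem chkT : chkP (nw (W 0 ++ ([.e,.g] : List Gen)) false) (rows 0) = true := by decide +kernel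

theorem cj_word {u w w' : List Gen} (hw : w.length % 2 = 0) (hw' : w'.length % 2 = 0)
    (h : eqB (u ++ w ++ u.reverse) w' = true) : cj (word u) (wK w hw) = wK w' hw' := by
  apply Subtype.ext
  show word u * word w * (word u)⁻¹ = word w'
  rw [← word_reverse, ← word_append, ← word_append]
  exact eq_of_eqB h

theorem good_la : Good π3 (wK [.l,.a] rfl) := by
  have h := (good_tau (even_W 0 (by norm_num)) Schreier.FiBasic.c0).conj24 (word [.a,.k,.a])
  have e := cj_word (u := [.a,.k,.a]) (w := W 0) (w' := [.l,.a]) (even_W 0 (by norm_num)) rfl chkA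
  rw [← e]; exact h

theorem good_laeg : Good π3 (wK [.l,.a,.e,.g] rfl) := by
  have h := (good_tau (w := W 0 ++ ([.e,.g] : List Gen)) (by decide +kernel) chkT).conj24 (word [.a,.k,.a])
  have e := cj_word (u := [.a,.k,.a]) (w := W 0 ++ ([.e,.g] : List Gen)) (w' := [.l,.a,.e,.g]) (by decide +kernel) rfl chkB
  rw [← e]; exact h

theorem d0 : d none = word (tw 0) := by rw [← word_tw none, lab_none]
theorem d1 : d (some 0) = word (tw 1) := by rw [← word_tw (some 0), show lab (some 0) = 1 by decide +kernel]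
theorem d3 : d (some 2) = word (tw 3) := by rw [← word_tw (some 2), show lab (some 2) = 3 by decide +kernel]
theorem d8 : d (some 4) = word (tw 8) := by rw [← word_tw (some 4), show lab (some 4) = 8 by decide +kernel]

theorem good_A {a : Spor.Fi24'} (ha : a ∈ AA) : Good π3 a := by
  rcases H827.Coco.cases ha with rfl | ⟨p, q, hpq, h⟩ | ⟨p, q, r, s, h1, h2, h3, h4, h5, h6, h⟩
  · exact one
  · obtain ⟨n, -, e1, e2⟩ := H827.CocoD.exists_even hpq (show (none : GolayPt) ≠ some 0 by decide)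
    refine Good.of_conj24 n ?_
    have e : cj n a = wK [.l,.a] rfl := Subtype.ext (by
      show n * (a : Fi24) * n⁻¹ = word [.l,.a]
      rw [h, show n * (d p * d q) * n⁻¹ = (n * d p * n⁻¹) * (n * d q * n⁻¹) by group, e1, e2, d0, d1, ← word_append]
      rfl)
    rw [e]; exact good_la
  · obtain ⟨n, -, e1, e2, e3, e4⟩ := R08.TetBig.quad R08.TetBigInst.hyp (isTet h1 h2 h3 h4 h5 h6)
      (isTet (p := none) (q := some 0) (r := some 2) (s := some 4) (by decide) (by decide) (by decide) (by decide) (by decide)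
        (by decide))
    refine Good.of_conj24 n ?_
    have e : cj n a = wK [.l,.a,.e,.g] rfl := Subtype.ext (by
      show n * (a : Fi24) * n⁻¹ = word [.l,.a,.e,.g]
      rw [h, show n * (d p * d q * d r * d s) * n⁻¹ = (n * d p * n⁻¹) * (n * d q * n⁻¹) * (n * d r * n⁻¹) * (n * d s * n⁻¹) by
        group, e1, e2, e3, e4, d0, d1, d3, d8, ← word_append, ← word_append, ← word_append]
      rfl)
    rw [e]; exact good_laeg

/-! ### the results -/

/-- **(R2): all lifts of the 2-elements are commutators** -/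
theorem two {g : Spor.Fi24'} {n : ℕ} (hg : g ^ 2 ^ n = 1) : Good π3 g := by
  obtain ⟨h, c, rfl, h2⟩ := ext.into hg
  refine Good.conj ?_ hs3 c
  by_cases h1 : ind h = 1
  · exact good_A ((ind_ker h).1 h1)
  · exact good_N (n := n) (by rw [mul_comm, pow_mul, h2, one_pow]) h1

/-- **(R2b), modulo the containment in `N(AA)`** -/
theorem good_into {s t g : Spor.Fi24'} {n : ℕ} (hs : s ^ 3 = 1) (ht : t ^ 2 ^ n = 1) (hc : Commute s t)
    (hg : g * (s * t) * g⁻¹ ∈ normalizer (AA : Set Spor.Fi24')) : Good π3 (s * t) := by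
  refine Good.of_conj hs3 g ?_
  have h6 : (s * t) ^ (3 * 2 ^ n) = 1 := by
    rw [hc.mul_pow, pow_mul, hs, one_pow, mul_comm 3, pow_mul, ht, one_pow, one_mul]
  have h7 : (g * (s * t) * g⁻¹) ^ (3 * 2 ^ n) = 1 := by rw [conj_pow, h6]; group
  by_cases h1 : ind ⟨_, hg⟩ = 1
  · exact good_A ((ind_ker ⟨_, hg⟩).1 h1)
  · refine good_N (h := ⟨_, hg⟩) (n := n) ?_ h1
    rw [← map_pow]
    have h8 : (⟨_, hg⟩ : ↥(normalizer (AA : Set Spor.Fi24'))) ^ (3 * 2 ^ n) = 1 := Subtype.ext h7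
    rw [h8, map_one]

end Cfsg.Agent.H265.TF
end
end
end
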